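import Groth.Agent.ResProp.EF.X56.NF
import Mathlib.RingTheory.Finiteness.Descent

/-!
# (GAL) Galois descent over a groupoid ring

`D : NFᵒᵖ ⥤ CommRingCat` a groupoid ring (`GR D`), `c : C →+* D⟨0⟩` faithfully flat with `D⟨0⟩ ⊗[C] D⟨0⟩ = D⟨1⟩`.  For a cartesian
`N : PM D` the alternating complex `N⟨0⟩ → N⟨1⟩ → ..` is exact in all degrees `≥ 1`, and `N⟨0⟩ = D⟨0⟩ ⊗[C] N^Γ`.
-/

set_option autoImplicit false
set_option linter.dupNamespace false
set_option linter.style.haveILetI false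

open CategoryTheory Opposite

namespace Groth.Agent.ResProp.EF.K431

open K784.BC K784.PM EF56

universe w u

/-! ### combinatorics -/

/-- the face leaving out the vertex `i` -/
def δ (n : ℕ) (i : Fin (n + 2)) : (⟨n + 1⟩ : NF) ⟶ ⟨n⟩ := (Fin.succAbove i : Fin (n + 1) → Fin (n + 2))

/-- repeat the last vertex -/
def sg (n : ℕ) : (⟨n⟩ : NF) ⟶ ⟨n + 1⟩ := (Fin.lastCases (Fin.last n) (fun i => i) : Fin (n + 2) → Fin (n + 1))

theorem sg_castSucc (n : ℕ) (j : Fin (n + 1)) : (show Fin (n + 2) → Fin (n + 1) from sg n) j.castSucc = j :=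
  Fin.lastCases_castSucc (motive := fun _ => Fin (n + 1)) _

theorem sg_last (n : ℕ) : (show Fin (n + 2) → Fin (n + 1) from sg n) (Fin.last (n + 1)) = Fin.last n :=
  Fin.lastCases_last (motive := fun _ => Fin (n + 1))

theorem δ_last (n : ℕ) : δ n (Fin.last (n + 1)) = pr ⟨n⟩ := by
  funext j
  exact Fin.succAbove_last_apply j

theorem wmap_castSucc {a b : NF} (φ : a ⟶ b) (j : Fin (b.n + 1)) :
    (show Fin (b.n + 2) → Fin (a.n + 2) from wmap φ) j.castSucc =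
      ((show Fin (b.n + 1) → Fin (a.n + 1) from φ) j).castSucc :=
  Fin.lastCases_castSucc (motive := fun _ => Fin (a.n + 2)) _

theorem wmap_last {a b : NF} (φ : a ⟶ b) :
    (show Fin (b.n + 2) → Fin (a.n + 2) from wmap φ) (Fin.last (b.n + 1)) = Fin.last (a.n + 1) :=
  Fin.lastCases_last (motive := fun _ => Fin (a.n + 2))

theorem sg_wmap_last (n : ℕ) : sg (n + 1) ≫ wmap (δ n (Fin.last (n + 1))) = 𝟙 (⟨n + 1⟩ : NF) := by
  funext j
  refine Fin.lastCases ?_ (fun j => ?_) j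
  · change (show Fin (n + 3) → Fin (n + 2) from sg (n + 1)) ((show Fin (n + 2) → Fin (n + 3) from
      wmap (δ n (Fin.last (n + 1)))) (Fin.last (n + 1))) = Fin.last (n + 1)
    rw [wmap_last, sg_last]
  · change (show Fin (n + 3) → Fin (n + 2) from sg (n + 1)) ((show Fin (n + 2) → Fin (n + 3) from
      wmap (δ n (Fin.last (n + 1)))) j.castSucc) = j.castSucc
    rw [wmap_castSucc, sg_castSucc]
    exact Fin.succAbove_last_apply j

theorem sg_wmap_castSucc (n : ℕ) (i : Fin (n + 2)) :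
    sg (n + 2) ≫ wmap (δ (n + 1) i.castSucc) = wmap (δ n i) ≫ sg (n + 1) := by
  funext j
  refine Fin.lastCases ?_ (fun j => ?_) j
  · change (show Fin (n + 4) → Fin (n + 3) from sg (n + 2)) ((show Fin (n + 3) → Fin (n + 4) from
      wmap (δ (n + 1) i.castSucc)) (Fin.last (n + 2))) = (show Fin (n + 2) → Fin (n + 3) from wmap (δ n i))
        ((show Fin (n + 3) → Fin (n + 2) from sg (n + 1)) (Fin.last (n + 2)))
    rw [wmap_last, sg_last, sg_last, wmap_last]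
  · change (show Fin (n + 4) → Fin (n + 3) from sg (n + 2)) ((show Fin (n + 3) → Fin (n + 4) from
      wmap (δ (n + 1) i.castSucc)) j.castSucc) = (show Fin (n + 2) → Fin (n + 3) from wmap (δ n i))
        ((show Fin (n + 3) → Fin (n + 2) from sg (n + 1)) j.castSucc)
    rw [wmap_castSucc, sg_castSucc, sg_castSucc]
    change Fin.succAbove i.castSucc j = _
    refine Fin.lastCases ?_ (fun j => ?_) j
    · rw [wmap_last]
      exact Fin.succAbove_castSucc_of_le _ _ (Fin.le_last _) |>.trans rfl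
    · rw [wmap_castSucc]
      exact Fin.castSucc_succAbove_castSucc

theorem wmap_δ_lst (n : ℕ) (i : Fin (n + 2)) : wmap (δ n i) ≫ lst ⟨n⟩ = lst ⟨n + 1⟩ := wmap_lst _

theorem pr_δ (n : ℕ) (i : Fin (n + 2)) : pr ⟨n + 1⟩ ≫ δ n i = wmap (δ n i) ≫ pr ⟨n⟩ := (wmap_pr _).symm


/-! ### descent of exactness -/

theorem mem_range_of_ff {C B X X' Y Y' : Type*} [CommRing C] [CommRing B] [AddCommGroup X] [Module C X]
    [AddCommGroup X'] [Module C X'] [AddCommGroup Y] [Module B Y] [AddCommGroup Y'] [Module B Y'] {φ : C →+* B}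
    (hφ : φ.FaithfullyFlat) {a : X →+ Y} {a' : X' →+ Y'} (ha : IsBC φ a) (ha' : IsBC φ a') (d : X →ₗ[C] X')
    (e : Y →ₗ[B] Y') (he : ∀ x, e (a x) = a' (d x)) {z : X'} {w : Y} (hw : e w = a' z) : ∃ x, d x = z := by
  letI := φ.toAlgebra
  haveI : Module.FaithfullyFlat C B := hφ
  have h2 := isBC_mk φ (X' ⧸ LinearMap.range d)
  obtain ⟨π', hπ'⟩ := IsBC.exists_map ha' h2.map_smul (LinearMap.range d).mkQ
  have h3 : ∀ y : Y, π' (e y) = 0 := by
    intro y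
    induction y using ha.induction with
    | zero => simp
    | map m =>
      rw [he, hπ']
      have : (LinearMap.range d).mkQ (d m) = 0 := (Submodule.Quotient.mk_eq_zero _).2 ⟨m, rfl⟩
      rw [this, map_zero]
    | smul b n hn => rw [map_smul, map_smul, hn, smul_zero]
    | add x y hx hy => rw [map_add, map_add, hx, hy, add_zero]
  have h4 : (LinearMap.range d).mkQ z = 0 := by
    have h5 := h3 w
    rw [hw, hπ'] at h5
    exact Module.FaithfullyFlat.tensorProduct_mk_injective (A := C) (B := B) (X' ⧸ LinearMap.range d)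
      (h5.trans (TensorProduct.tmul_zero _ _).symm)
  exact (Submodule.Quotient.mk_eq_zero _).1 h4

/-! ### the two complexes -/

section Cpx

variable {D : NFᵒᵖ ⥤ CommRingCat.{u}} (N : PM.{w} D)

/-- the alternating differential -/
def dd (n : ℕ) : N.obj ⟨n⟩ →+ N.obj ⟨n + 1⟩ := ∑ i : Fin (n + 2), ((-1 : ℤ) ^ (i : ℕ)) • N.map (δ n i)

/-- the alternating differential with a marked last vertex -/
def ee (n : ℕ) : N.obj ⟨n + 1⟩ →+ N.obj ⟨n + 2⟩ := ∑ i : Fin (n + 2), ((-1 : ℤ) ^ (i : ℕ)) • N.map (wmap (δ n i))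

theorem dd_apply (n : ℕ) (x : N.obj ⟨n⟩) : dd N n x = ∑ i : Fin (n + 2), ((-1 : ℤ) ^ (i : ℕ)) • N.map (δ n i) x := by
  rw [dd, AddMonoidHom.finsetSum_apply]
  rfl

theorem ee_apply (n : ℕ) (x : N.obj ⟨n + 1⟩) :
    ee N n x = ∑ i : Fin (n + 2), ((-1 : ℤ) ^ (i : ℕ)) • N.map (wmap (δ n i)) x := by
  rw [ee, AddMonoidHom.finsetSum_apply]
  rfl

theorem ee_pr (n : ℕ) (x : N.obj ⟨n⟩) : ee N n (N.map (pr ⟨n⟩) x) = N.map (pr ⟨n + 1⟩) (dd N n x) := by
  rw [ee_apply, dd_apply, map_sum]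
  refine Finset.sum_congr rfl fun i _ => ?_
  rw [map_zsmul, ← N.map_comp, ← N.map_comp, pr_δ]

theorem sg_ee (n : ℕ) (y : N.obj ⟨n + 2⟩) : N.map (sg (n + 2)) (ee N (n + 1) y) =
    ee N n (N.map (sg (n + 1)) y) + ((-1 : ℤ) ^ (n + 2)) • y := by
  rw [ee_apply, map_sum, Fin.sum_univ_castSucc, ee_apply]
  congr 1
  · refine Finset.sum_congr rfl fun i _ => ?_
    rw [map_zsmul, ← N.map_comp, ← N.map_comp]
    have := sg_wmap_castSucc n i
    erw [this]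
    rfl
  · rw [map_zsmul, ← N.map_comp]
    have := sg_wmap_last (n + 1)
    erw [this, N.map_id]
    rfl

theorem exists_of_ee (n : ℕ) (y : N.obj ⟨n + 2⟩) (h : ee N (n + 1) y = 0) : ∃ w, ee N n w = y := by
  refine ⟨(-((-1 : ℤ) ^ (n + 2))) • N.map (sg (n + 1)) y, ?_⟩
  have h1 := sg_ee N n y
  rw [h, map_zero] at h1
  have h2 : ee N n (N.map (sg (n + 1)) y) = -(((-1 : ℤ) ^ (n + 2)) • y) := eq_neg_of_add_eq_zero_left h1.symm
  rw [map_zsmul, h2, smul_neg, neg_smul, neg_neg, smul_smul, ← pow_add, Even.neg_one_pow ⟨n + 2, rfl⟩, one_smul]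

end Cpx

/-! ### the Galois situation -/

section Gal

variable {D : NFᵒᵖ ⥤ CommRingCat.{u}} {C : Type u} [CommRing C] (c : C →+* D.obj (op ⟨0⟩))

/-- the ring homomorphism `C → D⟨n⟩` through the vertex `0` -/
def cn (n : ℕ) : C →+* D.obj (op ⟨n⟩) := (rg D (pt ⟨n⟩ 0)).comp c

variable (D) in
/-- **Galois**: `C → D⟨0⟩` is faithfully flat and `D⟨1⟩ = D⟨0⟩ ⊗[C] D⟨0⟩`. -/
structure IsGal : Prop where
  gr : GR D
  ff : c.FaithfullyFlat
  po : IsPO c c (rg D (pr ⟨0⟩)) (rg D (lst ⟨0⟩))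

variable {c}

theorem IsGal.comm (h : IsGal D c) (r : C) : rg D (pr ⟨0⟩) (c r) = rg D (lst ⟨0⟩) (c r) := congr($h.po.comm r)

/-- the arrow `⟨n⟩ ⟶ ⟨1⟩` with vertices `i`, `j` -/
def pt2 (n : ℕ) (i j : Fin (n + 1)) : (⟨n⟩ : NF) ⟶ ⟨1⟩ := (![i, j] : Fin 2 → Fin (n + 1))

theorem pt2_pr (n : ℕ) (i j : Fin (n + 1)) : pt2 n i j ≫ pr ⟨0⟩ = pt ⟨n⟩ i := by
  funext k
  have : k = 0 := Subsingleton.elim (α := Fin 1) _ _
  subst this
  rfl

theorem pt2_lst (n : ℕ) (i j : Fin (n + 1)) : pt2 n i j ≫ lst ⟨0⟩ = pt ⟨n⟩ j := by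
  funext k
  have : k = 0 := Subsingleton.elim (α := Fin 1) _ _
  subst this
  rfl

theorem IsGal.rg_pt (h : IsGal D c) (n : ℕ) (i j : Fin (n + 1)) (r : C) :
    rg D (pt ⟨n⟩ i) (c r) = rg D (pt ⟨n⟩ j) (c r) := by
  rw [← pt2_pr n i j, ← pt2_lst n i j, rg_comp_apply, rg_comp_apply, h.comm]

/-- every arrow is over `C` -/
theorem IsGal.rg_cn (h : IsGal D c) {m n : ℕ} (φ : (⟨m⟩ : NF) ⟶ ⟨n⟩) (r : C) : rg D φ (cn c n r) = cn c m r := by
  change rg D φ (rg D (pt ⟨n⟩ 0) (c r)) = rg D (pt ⟨m⟩ 0) (c r)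
  rw [← rg_comp_apply]
  exact h.rg_pt m ((show Fin (n + 1) → Fin (m + 1) from φ) 0) 0 r

theorem cn_zero (h : IsGal D c) (r : C) : cn c 0 r = c r := by
  have := h.rg_cn (𝟙 (⟨0⟩ : NF)) r
  change rg D (pt ⟨0⟩ 0) (c r) = c r
  have h2 : pt ⟨0⟩ 0 = 𝟙 (⟨0⟩ : NF) := by
    funext k
    exact Subsingleton.elim (α := Fin 1) _ _
  rw [h2, rg_id]
  rfl

theorem pt_lst (n : ℕ) : pt ⟨n + 1⟩ (Fin.last (n + 1)) = lst ⟨n⟩ := rfl

theorem IsGal.lst_c (h : IsGal D c) (n : ℕ) (r : C) : rg D (lst ⟨n⟩) (c r) = cn c (n + 1) r :=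
  h.rg_pt (n + 1) (Fin.last (n + 1)) 0 r

/-- `D⟨n + 1⟩ = D⟨0⟩ ⊗[C] D⟨n⟩` -/
theorem IsGal.poN (h : IsGal D c) (n : ℕ) : IsPO c (cn c n) (rg D (lst ⟨n⟩)) (rg D (pr ⟨n⟩)) := by
  have h1 := h.gr.po (pt (⟨n⟩ : NF) 0)
  have h2 : IsPushout (CommRingCat.ofHom c) (CommRingCat.ofHom c) (CommRingCat.ofHom (rg D (lst ⟨0⟩)))
    (CommRingCat.ofHom (rg D (pr ⟨0⟩))) := h.po.flip
  have h3 : IsPushout (CommRingCat.ofHom (rg D (pr ⟨0⟩))) (CommRingCat.ofHom (rg D (pt (⟨n⟩ : NF) 0)))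
    (CommRingCat.ofHom (rg D (wmap (pt (⟨n⟩ : NF) 0)))) (CommRingCat.ofHom (rg D (pr ⟨n⟩))) := h1.flip
  have h4 := IsPushout.paste_vert h2 h3
  have e1 : CommRingCat.ofHom c ≫ CommRingCat.ofHom (rg D (pt (⟨n⟩ : NF) 0)) = CommRingCat.ofHom (cn c n) := rfl
  have e2 : CommRingCat.ofHom (rg D (lst ⟨0⟩)) ≫ CommRingCat.ofHom (rg D (wmap (pt (⟨n⟩ : NF) 0))) =
      CommRingCat.ofHom (rg D (lst ⟨n⟩)) := by
    ext r
    change rg D (wmap (pt (⟨n⟩ : NF) 0)) (rg D (lst ⟨0⟩) r) = rg D (lst ⟨n⟩) r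
    rw [← rg_comp_apply, wmap_lst]
  rw [e1, e2] at h4
  exact h4

variable (N : PM.{w} D)

/-- `N⟨n⟩` as a `C`-module -/
@[reducible] def modC (c : C →+* D.obj (op ⟨0⟩)) (n : ℕ) : Module C (N.obj ⟨n⟩) := Module.compHom _ (cn c n)

/-- `N⟨n + 1⟩` as a `D⟨0⟩`-module through the last vertex -/
@[reducible] def modL (n : ℕ) : Module (D.obj (op ⟨0⟩)) (N.obj ⟨n + 1⟩) := Module.compHom _ (rg D (lst ⟨n⟩))

theorem IsGal.isBC (h : IsGal D c) {N : PM.{w} D} (hN : N.Cart) (n : ℕ) :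
    letI := modC N c n
    letI := modL N n
    IsBC c (N.map (pr ⟨n⟩)) := by
  letI := modC N c n
  letI := modL N n
  exact IsBC.of_po (h.poN n) (fun _ _ => rfl) (fun _ _ => rfl) (hN (pr ⟨n⟩))

/-- `dd` is `C`-linear -/
def ddC (h : IsGal D c) (N : PM.{w} D) (n : ℕ) :
    letI := modC N c n
    letI := modC N c (n + 1)
    N.obj ⟨n⟩ →ₗ[C] N.obj ⟨n + 1⟩ :=
  letI := modC N c n
  letI := modC N c (n + 1)
  { dd N n with
    map_smul' := fun r x => by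
      change dd N n (cn c n r • x) = cn c (n + 1) r • dd N n x
      rw [dd_apply, dd_apply, Finset.smul_sum]
      refine Finset.sum_congr rfl fun i _ => ?_
      rw [N.map_smul, h.rg_cn, smul_comm] }

/-- `ee` is linear over the last vertex -/
def eeL (N : PM.{w} D) (n : ℕ) :
    letI := modL N n
    letI := modL N (n + 1)
    N.obj ⟨n + 1⟩ →ₗ[D.obj (op ⟨0⟩)] N.obj ⟨n + 2⟩ :=
  letI := modL N n
  letI := modL N (n + 1)
  { ee N n with
    map_smul' := fun r x => by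
      change ee N n (rg D (lst ⟨n⟩) r • x) = rg D (lst ⟨n + 1⟩) r • ee N n x
      rw [ee_apply, ee_apply, Finset.smul_sum]
      refine Finset.sum_congr rfl fun i _ => ?_
      rw [N.map_smul, ← rg_comp_apply, wmap_δ_lst, smul_comm] }

/-- **(GAL 1)** the alternating complex is exact in all degrees `≥ 1`. -/
theorem IsGal.exact (h : IsGal D c) {N : PM.{w} D} (hN : N.Cart) (n : ℕ) (z : N.obj ⟨n + 1⟩)
    (hz : dd N (n + 1) z = 0) : ∃ y : N.obj ⟨n⟩, dd N n y = z := by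
  obtain ⟨w, hw⟩ := exists_of_ee N n (N.map (pr ⟨n + 1⟩) z) (by rw [ee_pr, hz, map_zero])
  letI := modC N c n
  letI := modC N c (n + 1)
  letI := modL N n
  letI := modL N (n + 1)
  exact mem_range_of_ff h.ff (h.isBC hN n) (h.isBC hN (n + 1)) (ddC h N n) (eeL N n) (fun x => ee_pr N n x) (z := z)
    (w := w) hw

/-! ### invariants -/

/-- the invariants `N^Γ ⊆ N⟨0⟩` -/
def inv (h : IsGal D c) (N : PM.{w} D) : letI := modC N c 0; Submodule C (N.obj ⟨0⟩) :=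
  letI := modC N c 0
  letI := modC N c 1
  LinearMap.ker (ddC h N 0)

theorem dd_zero (x : N.obj ⟨0⟩) : dd N 0 x = N.map (lst ⟨0⟩) x - N.map (pr ⟨0⟩) x := by
  rw [dd_apply, Fin.sum_univ_two]
  have e0 : δ 0 0 = lst ⟨0⟩ := by
    funext j
    have : j = 0 := Subsingleton.elim (α := Fin 1) _ _
    subst this
    rfl
  have e1 : δ 0 1 = pr ⟨0⟩ := δ_last 0
  rw [e0, e1]
  simp [sub_eq_add_neg]

theorem mem_inv (h : IsGal D c) {N : PM.{w} D} (x : N.obj ⟨0⟩) : letI := modC N c 0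
    x ∈ inv h N ↔ N.map (pr ⟨0⟩) x = N.map (lst ⟨0⟩) x := by
  change dd N 0 x = 0 ↔ _
  rw [dd_zero, sub_eq_zero, eq_comm]

theorem ee_zero_lst (x : N.obj ⟨0⟩) : ee N 0 (N.map (lst ⟨0⟩) x) = 0 := by
  rw [ee_apply, Fin.sum_univ_two, ← N.map_comp, ← N.map_comp, wmap_δ_lst, wmap_δ_lst]
  simp

/-- the diagonal -/
def dg : (⟨0⟩ : NF) ⟶ ⟨1⟩ := (fun _ => 0 : Fin 2 → Fin 1)

theorem dg_lst : dg ≫ lst ⟨0⟩ = 𝟙 (⟨0⟩ : NF) := by
  funext k
  exact Subsingleton.elim (α := Fin 1) _ _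

theorem dg_pr : dg ≫ pr ⟨0⟩ = 𝟙 (⟨0⟩ : NF) := by
  funext k
  exact Subsingleton.elim (α := Fin 1) _ _

theorem sg_wmap_zero : sg 1 ≫ wmap (δ 0 0) = lst ⟨0⟩ ≫ dg := by
  funext j
  refine Fin.lastCases ?_ (fun j => ?_) j
  · change (show Fin 3 → Fin 2 from sg 1) ((show Fin 2 → Fin 3 from wmap (δ 0 0)) (Fin.last 1)) = _
    rw [wmap_last, sg_last]
    rfl
  · change (show Fin 3 → Fin 2 from sg 1) ((show Fin 2 → Fin 3 from wmap (δ 0 0)) j.castSucc) = _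
    rw [wmap_castSucc, sg_castSucc]
    have : j = 0 := Subsingleton.elim (α := Fin 1) _ _
    subst this
    rfl

theorem lst_dg_of_ee (y : N.obj ⟨1⟩) (h : ee N 0 y = 0) : N.map (lst ⟨0⟩) (N.map dg y) = y := by
  have h1 : N.map (sg 1) (ee N 0 y) = 0 := by rw [h, map_zero]
  rw [ee_apply, Fin.sum_univ_two, map_add, map_zsmul, map_zsmul, ← N.map_comp, ← N.map_comp, sg_wmap_zero] at h1
  have e1 : sg 1 ≫ wmap (δ 0 1) = 𝟙 (⟨1⟩ : NF) := sg_wmap_last 0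
  rw [e1, N.map_id, N.map_comp] at h1
  have h2 : N.map (lst ⟨0⟩) (N.map dg y) - y = 0 := by simpa [sub_eq_add_neg] using h1
  exact sub_eq_zero.mp h2

/-- **(GAL 2)** `N⟨0⟩ = D⟨0⟩ ⊗[C] N^Γ`. -/
theorem IsGal.isBC_inv (h : IsGal D c) {N : PM.{w} D} (hN : N.Cart) :
    letI := modC N c 0
    IsBC c (inv h N).subtype.toAddMonoidHom := by
  letI := modC N c 0
  letI := modC N c 1
  letI := modL N 0
  letI := modL N 1
  let K' := LinearMap.ker (eeL N 0)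
  have hmem : ∀ x : inv h N, N.map (pr ⟨0⟩) x.1 ∈ K' := fun x => by
    rw [LinearMap.mem_ker]
    change ee N 0 (N.map (pr ⟨0⟩) x.1) = 0
    rw [(mem_inv h x.1).1 x.2, ee_zero_lst]
  let ιK : inv h N →+ K' :=
    { toFun := fun x => ⟨N.map (pr ⟨0⟩) x.1, hmem x⟩
      map_zero' := Subtype.ext (map_zero _)
      map_add' := fun x y => Subtype.ext (map_add _ _ _) }
  have h1 : IsBC c ιK := by
    refine IsBC.of_exact (RingHom.FaithfullyFlat.flat h.ff) (inv h N).subtype Subtype.val_injective (ddC h N 0)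
      (fun m => ?_) K'.subtype Subtype.val_injective (eeL N 0) (fun m => ?_) (h.isBC hN 0) (h.isBC hN 1)
      (fun k => rfl) (fun m => ee_pr N 0 m)
    · exact ⟨fun hm => ⟨⟨m, hm⟩, rfl⟩, fun ⟨k, hk⟩ => hk ▸ k.2⟩
    · exact ⟨fun hm => ⟨⟨m, hm⟩, rfl⟩, fun ⟨k, hk⟩ => hk ▸ k.2⟩
  have hc0 : ∀ (r : D.obj (op ⟨0⟩)) (x : N.obj ⟨0⟩), N.map (lst ⟨0⟩) (r • x) = r • N.map (lst ⟨0⟩) x := fun r x =>
    N.map_smul (lst ⟨0⟩) r x
  let e : K' ≃ₗ[D.obj (op ⟨0⟩)] N.obj ⟨0⟩ := LinearEquiv.symm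
    { toFun := fun x => ⟨N.map (lst ⟨0⟩) x, ee_zero_lst N x⟩
      map_add' := fun x y => Subtype.ext (map_add _ _ _)
      map_smul' := fun r x => Subtype.ext (hc0 r x)
      invFun := fun y => N.map dg y.1
      left_inv := fun x => by
        change N.map dg (N.map (lst ⟨0⟩) x) = x
        rw [← N.map_comp, dg_lst, N.map_id]
      right_inv := fun y => Subtype.ext (lst_dg_of_ee N y.1 y.2) }
  refine h1.of_equiv e (fun x => ?_)
  change e (ιK x) = x.1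
  rw [← LinearEquiv.eq_symm_apply]
  exact Subtype.ext ((mem_inv h x.1).1 x.2)

/-- **(GAL 3)** invariants detect. -/
theorem IsGal.subsingleton (h : IsGal D c) {N : PM.{w} D} (hN : N.Cart)
    (h0 : ∀ x : N.obj ⟨0⟩, N.map (pr ⟨0⟩) x = N.map (lst ⟨0⟩) x → x = 0) (x : N.obj ⟨0⟩) : x = 0 := by
  letI := modC N c 0
  induction x using (h.isBC_inv hN).induction with
  | zero => rfl
  | map m => exact h0 m.1 ((mem_inv h m.1).1 m.2)
  | smul b n hn => rw [hn, smul_zero]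
  | add x y hx hy => rw [hx, hy, add_zero]

/-- every element is a combination of invariants. -/
theorem IsGal.span_inv (h : IsGal D c) {N : PM.{w} D} (hN : N.Cart) :
    Submodule.span (D.obj (op ⟨0⟩)) {x : N.obj ⟨0⟩ | N.map (pr ⟨0⟩) x = N.map (lst ⟨0⟩) x} = ⊤ := by
  letI := modC N c 0
  have h1 := (h.isBC_inv hN).span_range
  rw [← h1]
  congr 1
  ext x
  exact ⟨fun hx => ⟨⟨x, (mem_inv h x).2 hx⟩, rfl⟩, fun ⟨y, hy⟩ => hy ▸ (mem_inv h y.1).1 y.2⟩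

/-- **(GAL 4)** invariants are right exact. -/
theorem IsGal.exists_inv_lift (h : IsGal D c) {N : PM.{w} D} {N' : PM.{w} D} (hN : N.Cart) (hN' : N'.Cart)
    (q : ∀ a, N.obj a →ₗ[D.obj (op a)] N'.obj a)
    (hq : ∀ ⦃a b : NF⦄ (φ : a ⟶ b) (e : N.obj b), q a (N.map φ e) = N'.map φ (q b e))
    (hs : Function.Surjective (q ⟨0⟩)) (y : N'.obj ⟨0⟩) (hy : N'.map (pr ⟨0⟩) y = N'.map (lst ⟨0⟩) y) :
    ∃ x : N.obj ⟨0⟩, N.map (pr ⟨0⟩) x = N.map (lst ⟨0⟩) x ∧ q ⟨0⟩ x = y := by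
  letI := modC N c 0
  letI := modC N' c 0
  let g : inv h N →ₗ[C] inv h N' :=
    { toFun := fun x => ⟨q ⟨0⟩ x.1, (mem_inv h _).2 (by
        rw [← hq, ← hq, (mem_inv h x.1).1 x.2])⟩
      map_add' := fun a b => Subtype.ext (map_add _ _ _)
      map_smul' := fun r a => Subtype.ext ((q ⟨0⟩).map_smul (cn c 0 r) a.1) }
  have hr : ∀ z : inv h N', ∃ x, g x = z := by
    intro z
    obtain ⟨w, hw⟩ := hs z.1
    exact mem_range_of_ff h.ff (h.isBC_inv hN) (h.isBC_inv hN') g (q ⟨0⟩) (fun x => rfl) (z := z) (w := w) hw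
  obtain ⟨x, hx⟩ := hr ⟨y, (mem_inv h y).2 hy⟩
  exact ⟨x.1, (mem_inv h x.1).1 x.2, congrArg Subtype.val hx⟩

/-- **(GAL 5)** finiteness descends. -/
theorem IsGal.finite_inv (h : IsGal D c) {N : PM.{w} D} (hN : N.Cart)
    [Module.Finite (D.obj (op ⟨0⟩)) (N.obj ⟨0⟩)] : letI := modC N c 0; Module.Finite C (inv h N) := by
  letI := modC N c 0
  letI := c.toAlgebra
  haveI : Module.FaithfullyFlat C (D.obj (op ⟨0⟩)) := h.ff
  obtain ⟨e, -⟩ := IsBC.exists_equiv (isBC_mk c (inv h N)) (h.isBC_inv hN)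
  haveI : Module.Finite (D.obj (op ⟨0⟩)) (TensorProduct C (D.obj (op ⟨0⟩)) (inv h N)) := Module.Finite.equiv e.symm
  exact Module.Finite.of_finite_tensorProduct_of_faithfullyFlat (D.obj (op ⟨0⟩))

end Gal

/-! ### groupoid rings over groupoid rings -/

/-- a functor cartesian over a groupoid ring is a groupoid ring. -/
theorem gr_of_cartHom {A D : NFᵒᵖ ⥤ CommRingCat.{u}} (hA : GR A) (j : A ⟶ D)
    (hj : ∀ {a b : NF} (φ : a ⟶ b), IsPO (rg A φ) (j.app (op b)).hom (j.app (op a)).hom (rg D φ)) : GR D where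
  ff a := (hj (pr a)).ff (hA.ff a)
  po {a b} φ := by
    have h1 : IsPushout (CommRingCat.ofHom (rg A φ)) (CommRingCat.ofHom (rg A (pr b)))
      (CommRingCat.ofHom (rg A (pr a))) (CommRingCat.ofHom (rg A (wmap φ))) := hA.po φ
    have h2 : IsPushout (CommRingCat.ofHom (rg A (pr a))) (CommRingCat.ofHom (j.app (op a)).hom)
      (CommRingCat.ofHom (j.app (op ⟨a.n + 1⟩)).hom) (CommRingCat.ofHom (rg D (pr a))) := hj (pr a)
    have h3 : IsPushout (CommRingCat.ofHom (rg A (pr b))) (CommRingCat.ofHom (j.app (op b)).hom)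
      (CommRingCat.ofHom (j.app (op ⟨b.n + 1⟩)).hom) (CommRingCat.ofHom (rg D (pr b))) := hj (pr b)
    have h4 := IsPushout.paste_vert h1.flip h2
    have n1 : CommRingCat.ofHom (rg A φ) ≫ CommRingCat.ofHom (j.app (op a)).hom =
        CommRingCat.ofHom (j.app (op b)).hom ≫ CommRingCat.ofHom (rg D φ) := j.naturality φ.op
    have n2 : CommRingCat.ofHom (rg A (wmap φ)) ≫ CommRingCat.ofHom (j.app (op ⟨a.n + 1⟩)).hom =
        CommRingCat.ofHom (j.app (op ⟨b.n + 1⟩)).hom ≫ CommRingCat.ofHom (rg D (wmap φ)) := j.naturality (wmap φ).op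
    rw [n1, n2] at h4
    refine (IsPushout.of_top h4 ?_ h3).flip
    ext r
    change rg D (wmap φ) (rg D (pr b) r) = rg D (pr a) (rg D φ r)
    rw [← rg_comp_apply, ← rg_comp_apply, wmap_pr]

end Groth.Agent.ResProp.EF.K431
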