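import Groth.Agent.ResProp.EF.K363.Glue
import Groth.Agent.ResProp.EF.K431.Gal
import Groth.Agent.ResProp.EF.Base

/-!
# (AD2) the graded pieces of a transport system are acyclic

* `H1_H2_of_gal` : if the graded pieces `T.M q n` of `T : K363.TS Hg` are (additively, compatibly with all `T.Mp q φ`) a cartesian
  module over a Galois groupoid ring `D`, then `T.H1 q` and `T.H2 q`.
* `tsPM` : the same with the module structures on `T.M q n` themselves.
* `PM.ofAct`, `PM.ofAct_cart` : a cartesian module over `A` with compatible actions of the `D⟨n⟩`, `j : A ⟶ D` cartesian, is a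
  cartesian module over `D`.
-/

set_option autoImplicit false
set_option linter.dupNamespace false
set_option linter.style.haveILetI false

open CategoryTheory Opposite

namespace Groth.Agent.ResProp.EF.K431

open K784.BC K784.PM EF56

universe v w₁ w u

theorem δ_one : ∀ i : Fin 3, (δ 1 i : (⟨2⟩ : NF) ⟶ ⟨1⟩) =
    (![(![1, 2] : Fin 2 → Fin 3), ![0, 2], ![0, 1]] : Fin 3 → Fin 2 → Fin 3) i := by
  intro i
  funext j
  change Fin.succAbove i j = _
  revert i j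
  decide

theorem δ_two : ∀ i : Fin 4, (δ 2 i : (⟨3⟩ : NF) ⟶ ⟨2⟩) =
    (![(![1, 2, 3] : Fin 3 → Fin 4), ![0, 2, 3], ![0, 1, 3], ![0, 1, 2]] : Fin 4 → Fin 3 → Fin 4) i := by
  intro i
  funext j
  change Fin.succAbove i j = _
  revert i j
  decide

section

variable {D : NFᵒᵖ ⥤ CommRingCat.{u}} (N : PM.{w} D)

/-- the structure map along a map of vertices -/
def mp {m n : ℕ} (φ : Fin (m + 1) → Fin (n + 1)) : N.obj ⟨m⟩ →+ N.obj ⟨n⟩ :=
  N.map (show (⟨n⟩ : NF) ⟶ ⟨m⟩ from φ)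

theorem dd_zero' (x : N.obj ⟨0⟩) : dd N 0 x = mp N (n := 1) ![1] x - mp N (n := 1) ![0] x := by
  rw [dd_zero]
  have e0 : lst ⟨0⟩ = (![1] : Fin 1 → Fin 2) := by
    funext j
    have : j = 0 := Subsingleton.elim (α := Fin 1) _ _
    subst this
    rfl
  have e1 : pr ⟨0⟩ = (![0] : Fin 1 → Fin 2) := by
    funext j
    have : j = 0 := Subsingleton.elim (α := Fin 1) _ _
    subst this
    rfl
  rw [e0, e1]
  rfl

theorem dd_one' (x : N.obj ⟨1⟩) :
    dd N 1 x = mp N (n := 2) ![1, 2] x - mp N (n := 2) ![0, 2] x + mp N (n := 2) ![0, 1] x := by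
  rw [dd_apply, Fin.sum_univ_three, δ_one, δ_one, δ_one]
  simp [sub_eq_add_neg, mp]

theorem dd_two' (x : N.obj ⟨2⟩) :
    dd N 2 x = mp N (n := 3) ![1, 2, 3] x - mp N (n := 3) ![0, 2, 3] x + mp N (n := 3) ![0, 1, 3] x -
      mp N (n := 3) ![0, 1, 2] x := by
  rw [dd_apply, Fin.sum_univ_four, δ_two, δ_two, δ_two, δ_two]
  simp [sub_eq_add_neg, mp, pow_succ]

variable {N} {C : Type u} [CommRing C] {c : C →+* D.obj (op ⟨0⟩)} {Hg : Type v} [Group Hg]

/-- **(AD2)** -/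
theorem H1_of_gal (h : IsGal D c) (hN : N.Cart) (T : K363.TS.{w₁, v, w} Hg) (q : ℕ)
    (e : ∀ n, T.M q n ≃+ N.obj ⟨n⟩)
    (he : ∀ {m n : ℕ} (φ : Fin (m + 1) → Fin (n + 1)) (x : T.M q m), e n (T.Mp q φ x) = mp N φ (e m x)) :
    T.H1 q := by
  intro z hz
  have h1 : dd N 1 (e 1 z) = 0 := by
    rw [dd_one', ← he, ← he, ← he, ← map_sub, ← map_add]
    have : T.Mp q ![1, 2] z - T.Mp q (n := 2) ![0, 2] z + T.Mp q ![0, 1] z = 0 := by
      rw [← hz]
      abel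
    rw [this, map_zero]
  obtain ⟨y, hy⟩ := h.exact hN 0 (e 1 z) h1
  refine ⟨(e 0).symm y, (e 1).injective ?_⟩
  rw [map_add, he, he, AddEquiv.apply_symm_apply, ← hy, dd_zero']
  abel

/-- **(AD2)** -/
theorem H2_of_gal (h : IsGal D c) (hN : N.Cart) (T : K363.TS.{w₁, v, w} Hg) (q : ℕ)
    (e : ∀ n, T.M q n ≃+ N.obj ⟨n⟩)
    (he : ∀ {m n : ℕ} (φ : Fin (m + 1) → Fin (n + 1)) (x : T.M q m), e n (T.Mp q φ x) = mp N φ (e m x)) :
    T.H2 q := by
  intro z hz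
  have h1 : dd N 2 (e 2 z) = 0 := by
    rw [dd_two', ← he, ← he, ← he, ← he, ← map_sub, ← map_add, ← map_sub]
    have : T.Mp q ![1, 2, 3] z - T.Mp q (n := 3) ![0, 2, 3] z + T.Mp q ![0, 1, 3] z - T.Mp q ![0, 1, 2] z = 0 := by
      rw [sub_add_eq_add_sub, hz]
      abel
    rw [this, map_zero]
  obtain ⟨y, hy⟩ := h.exact hN 1 (e 2 z) h1
  refine ⟨(e 1).symm y, (e 2).injective ?_⟩
  rw [map_add, map_add, he, he, he, AddEquiv.apply_symm_apply, ← hy, dd_one']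
  abel

/-- the structure maps of the graded pieces are functorial -/
theorem Mp_comp (T : K363.TS.{w₁, v, w} Hg) {q : ℕ} (hq : 1 ≤ q) {l m n : ℕ} (χ : Fin (m + 1) → Fin (n + 1))
    (φ : Fin (l + 1) → Fin (m + 1)) (x : T.M q l) : T.Mp q (fun i => χ (φ i)) x = T.Mp q χ (T.Mp q φ x) := by
  obtain ⟨a, ha, rfl⟩ := T.lam_surj (n := l) 0 hq x
  rw [← T.lam_P _ hq ha, ← T.lam_P φ hq ha, ← T.lam_P χ hq (T.F_P φ hq ha), T.P_comp]

/-- the graded pieces as a presheaf of modules -/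
@[reducible] def tsPM (T : K363.TS.{w₁, v, w} Hg) {q : ℕ} (hq : 1 ≤ q) (D : NFᵒᵖ ⥤ CommRingCat.{u})
    [mod : ∀ n : ℕ, Module (D.obj (op ⟨n⟩)) (T.M q n)]
    (hs : ∀ {m n : ℕ} (φ : Fin (m + 1) → Fin (n + 1)) (r : D.obj (op ⟨m⟩)) (x : T.M q m),
      T.Mp q φ (r • x) = rg D (show (⟨n⟩ : NF) ⟶ ⟨m⟩ from φ) r • T.Mp q φ x)
    (hid : ∀ (n : ℕ) (x : T.M q n), T.Mp q (fun i => i) x = x) : PM.{w} D where
  obj a := T.M q a.n
  grp a := T.addM q a.n
  mod a := mod a.n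
  map {a b} φ :=
    { toFun := T.Mp q (show Fin (b.n + 1) → Fin (a.n + 1) from φ)
      map_zero' := K363.TS.Mp_zero q _
      map_add' := T.Mp_add q _ }
  map_smul _ r x := hs _ r x
  map_id a x := hid a.n x
  map_comp {y x z} ψ φ m := Mp_comp T hq (show Fin (x.n + 1) → Fin (y.n + 1) from ψ)
    (show Fin (z.n + 1) → Fin (x.n + 1) from φ) m

/-- **(AD2)**, module structures on the graded pieces themselves -/
theorem H1_H2_of_module (h : IsGal D c) (T : K363.TS.{w₁, v, w} Hg) {q : ℕ} (hq : 1 ≤ q)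
    [mod : ∀ n : ℕ, Module (D.obj (op ⟨n⟩)) (T.M q n)]
    (hs : ∀ {m n : ℕ} (φ : Fin (m + 1) → Fin (n + 1)) (r : D.obj (op ⟨m⟩)) (x : T.M q m),
      T.Mp q φ (r • x) = rg D (show (⟨n⟩ : NF) ⟶ ⟨m⟩ from φ) r • T.Mp q φ x)
    (hid : ∀ (n : ℕ) (x : T.M q n), T.Mp q (fun i => i) x = x) (hc : (tsPM T hq D hs hid).Cart) :
    T.H1 q ∧ T.H2 q :=
  ⟨H1_of_gal (N := tsPM T hq D hs hid) h hc T q (fun _ => AddEquiv.refl _) fun _ _ => rfl,
    H2_of_gal (N := tsPM T hq D hs hid) h hc T q (fun _ => AddEquiv.refl _) fun _ _ => rfl⟩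

/-- **(AD2)** over `A`: the graded pieces are a cartesian module over `A` with compatible actions of `D`, `j : A ⟶ D` cartesian -/
theorem H1_H2_of_act (h : IsGal D c) {A : NFᵒᵖ ⥤ CommRingCat.{u}} {j : A ⟶ D} (hj : CartHom j)
    (T : K363.TS.{w₁, v, w} Hg) {q : ℕ} (hq : 1 ≤ q) [modA : ∀ n : ℕ, Module (A.obj (op ⟨n⟩)) (T.M q n)]
    [modD : ∀ n : ℕ, Module (D.obj (op ⟨n⟩)) (T.M q n)]
    (hjs : ∀ (n : ℕ) (r : A.obj (op ⟨n⟩)) (x : T.M q n), r • x = (j.app (op ⟨n⟩)).hom r • x)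
    (hs : ∀ {m n : ℕ} (φ : Fin (m + 1) → Fin (n + 1)) (r : D.obj (op ⟨m⟩)) (x : T.M q m),
      T.Mp q φ (r • x) = rg D (show (⟨n⟩ : NF) ⟶ ⟨m⟩ from φ) r • T.Mp q φ x)
    (hid : ∀ (n : ℕ) (x : T.M q n), T.Mp q (fun i => i) x = x)
    (hc : ∀ {m n : ℕ} (φ : Fin (m + 1) → Fin (n + 1)), IsBC (rg A (show (⟨n⟩ : NF) ⟶ ⟨m⟩ from φ))
      (AddMonoidHom.mk' (T.Mp q φ) (T.Mp_add q φ))) : T.H1 q ∧ T.H2 q := by
  refine H1_H2_of_module h T hq hs hid fun a b φ => ?_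
  exact IsBC.to_po (hj φ) (M := T.M q b.n) (N := T.M q a.n) (fun r x => hjs b.n r x) (fun r x => hjs a.n r x)
    (f := (tsPM T hq D hs hid).map φ) (fun r x => hs _ r x) (hc (show Fin (b.n + 1) → Fin (a.n + 1) from φ))

end

section Act

variable {A D : NFᵒᵖ ⥤ CommRingCat.{u}} (j : A ⟶ D)

/-- a module over `A` with compatible actions of the `D⟨n⟩` -/
@[reducible] def ofAct (N : PM.{w} A) [mod : ∀ a : NF, Module (D.obj (op a)) (N.obj a)]
    (hs : ∀ {a b : NF} (φ : a ⟶ b) (r : D.obj (op b)) (x : N.obj b), N.map φ (r • x) = rg D φ r • N.map φ x) :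
    PM.{w} D where
  obj := N.obj
  grp := N.grp
  mod := mod
  map φ := N.map φ
  map_smul φ r x := hs φ r x
  map_id := N.map_id
  map_comp := N.map_comp

variable {j}

/-- **it is cartesian**. -/
theorem ofAct_cart (hj : CartHom j) {N : PM.{w} A} (hN : N.Cart) [mod : ∀ a : NF, Module (D.obj (op a)) (N.obj a)]
    (hs : ∀ {a b : NF} (φ : a ⟶ b) (r : D.obj (op b)) (x : N.obj b), N.map φ (r • x) = rg D φ r • N.map φ x)
    (hj' : ∀ (a : NF) (r : A.obj (op a)) (x : N.obj a), r • x = (j.app (op a)).hom r • x) :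
    (ofAct N hs).Cart := fun a b φ => by
  exact IsBC.to_po (hj φ) (M := N.obj b) (N := N.obj a) (fun r x => hj' b r x) (fun r x => hj' a r x)
    (f := N.map φ) (fun r x => hs φ r x) (hN φ)

/-- conversely, a cartesian module over `D` is cartesian over `A` -/
@[reducible] def resAct (j : A ⟶ D) (N : PM.{w} D) : PM.{w} A where
  obj := N.obj
  grp := N.grp
  mod a := Module.compHom (N.obj a) (j.app (op a)).hom
  map φ := N.map φ
  map_smul {a b} φ r x := by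
    change N.map φ ((j.app (op b)).hom r • x) = (j.app (op a)).hom (rg A φ r) • N.map φ x
    rw [N.map_smul]
    congr 1
    exact (congr($(j.naturality φ.op).hom r)).symm
  map_id := N.map_id
  map_comp := N.map_comp

theorem resAct_cart (hj : CartHom j) {N : PM.{w} D} (hN : N.Cart) : (resAct j N).Cart := fun a b φ => by
  letI := (resAct j N).mod a
  letI := (resAct j N).mod b
  exact IsBC.of_po (hj φ) (M := N.obj b) (N := N.obj a) (fun _ _ => rfl) (fun _ _ => rfl) (f := N.map φ) (hN φ)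

end Act

end Groth.Agent.ResProp.EF.K431
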