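import Groth.Agent.ResProp.EF.K980.Alg
import Groth.Agent.ResProp.EF.K431.TSGal

/-!
# Modules with an action of the arrows between the vertices (980's `BC` language) as cartesian modules

`E : NFᵒᵖ ⥤ CommRingCat` the rings of the levels, `Vx R E` the vertices `pt n i : R →+* E⟨n⟩`.

* `VAct X M` : isomorphisms `BC (pt n i) M ≃ BC (pt n j) M`, functorial; `VAct.pm`, `VAct.pm_cart` : the cartesian module
  `⟨n⟩ ↦ BC (pt n 0) M`.
* `AlgLev X D` : the same for an algebra `D`, given by its values `G⟨n⟩` (`G` cartesian over `E`); `bD` : `BC (pt n i) D ≃ G⟨n⟩`.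
* `VAct.Semi` : `D`-semilinear actions; `semiMod`, `VAct.pmD`, `VAct.pmD_cart` : a cartesian module over `G`.
* `H1_H2_of_semi` : **(AD2)**.
-/

set_option autoImplicit false
set_option linter.dupNamespace false
set_option linter.style.haveILetI false

open CategoryTheory Opposite TensorProduct

namespace Groth.Agent.ResProp.EF.K431

open K784.BC K784.PM EF56 K980

universe w₁ v u

/-- the arrow of `NF` under a map of vertices -/
abbrev ar {m n : ℕ} (a : Fin (m + 1) → Fin (n + 1)) : (⟨n⟩ : NF) ⟶ ⟨m⟩ := a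

section BCgen

variable {R : Type u} {R' : Type u} {R'' : Type u} [CommRing R] [CommRing R'] [CommRing R''] {M : Type u} [AddCommGroup M]
  [Module R M] {x : R →+* R'} {x' : R →+* R''}

/-- `bc x` is a base change -/
theorem isBC_bc (x : R →+* R') (M : Type u) [AddCommGroup M] [Module R M] : IsBC x (bc x : M →ₛₗ[x] BC x M).toAddMonoidHom := by
  refine IsBC.of_lift (fun a m => (bc x : M →ₛₗ[x] BC x M).map_smulₛₗ a m) (fun Q _ _ g hg => ?_)
  let g0 : M →ₛₗ[x] Q := { g with map_smul' := hg }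
  refine ⟨BC.lift (σ := RingHom.id R') (τ := x) (RingHom.id_comp x) g0, fun m => BC.lift_bc _ _ m, fun g' hg' => ?_⟩
  exact BC.hom_ext fun m => (hg' m).trans
    (show g m = _ from (BC.lift_bc (σ := RingHom.id R') (RingHom.id_comp x) g0 m).symm)

/-- `tr f` is a base change -/
theorem isBC_tr {f : R' →+* R''} (hx : f.comp x = x') : IsBC f (BC.tr (M := M) f hx).toAddMonoidHom := by
  refine IsBC.of_comp (isBC_bc x M) (fun b n => (BC.tr (M := M) f hx).map_smulₛₗ b n) ?_
  have : (BC.tr (M := M) f hx).toAddMonoidHom.comp (bc x : M →ₛₗ[x] BC x M).toAddMonoidHom =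
      (bc x' : M →ₛₗ[x'] BC x' M).toAddMonoidHom := by
    ext m
    exact BC.tr_bc hx m
  rw [this]
  subst hx
  exact isBC_bc _ M

theorem tr_congr {f g : R' →+* R''} (h : f = g) (hf : f.comp x = x') (hg : g.comp x = x') (z : BC x M) :
    BC.tr f hf z = BC.tr g hg z := by
  subst h
  rfl

end BCgen

variable {R : Type u} [CommRing R] {E : NFᵒᵖ ⥤ CommRingCat.{u}}

variable (R E) in
/-- the vertices of the levels, as points of `R` -/
structure Vx where
  pt : ∀ n : ℕ, Fin (n + 1) → (R →+* E.obj (op ⟨n⟩))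
  f_pt : ∀ {m n : ℕ} (a : Fin (m + 1) → Fin (n + 1)) (i : Fin (m + 1)), (rg E (ar a)).comp (pt m i) = pt n (a i)

/-- an action of the arrows between the vertices -/
structure VAct (X : Vx R E) (M : Type u) [AddCommGroup M] [Module R M] where
  act : ∀ (n : ℕ) (i j : Fin (n + 1)), BC (X.pt n i) M ≃ₗ[E.obj (op ⟨n⟩)] BC (X.pt n j) M
  act_id : ∀ (n : ℕ) (i : Fin (n + 1)), act n i i = LinearEquiv.refl _ _
  act_comp : ∀ (n : ℕ) (i j k : Fin (n + 1)), (act n i j).trans (act n j k) = act n i k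
  act_pull : ∀ {m n : ℕ} (a : Fin (m + 1) → Fin (n + 1)) (i j : Fin (m + 1)),
    BC.pullE (rg E (ar a)) (X.f_pt a i) (X.f_pt a j) (act m i j) = act n (a i) (a j)

namespace VAct

variable {X : Vx R E} {M : Type u} [AddCommGroup M] [Module R M] (V : VAct X M)

/-- the structure map -/
noncomputable def mpx {m n : ℕ} (a : Fin (m + 1) → Fin (n + 1)) : BC (X.pt m 0) M →ₛₗ[rg E (ar a)] BC (X.pt n 0) M :=
  (V.act n (a 0) 0).toLinearMap.comp (BC.tr (rg E (ar a)) (X.f_pt a 0))

theorem mpx_apply {m n : ℕ} (a : Fin (m + 1) → Fin (n + 1)) (z : BC (X.pt m 0) M) :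
    V.mpx a z = V.act n (a 0) 0 (BC.tr (rg E (ar a)) (X.f_pt a 0) z) := rfl

/-- transport to the vertex `0` and pull-back -/
theorem mpx_act {m n : ℕ} (a : Fin (m + 1) → Fin (n + 1)) (i : Fin (m + 1)) (z : BC (X.pt m i) M) :
    V.mpx a (V.act m i 0 z) = V.act n (a i) 0 (BC.tr (rg E (ar a)) (X.f_pt a i) z) := by
  rw [mpx_apply, ← BC.pullE_tr (X.f_pt a i) (X.f_pt a 0), V.act_pull, ← V.act_comp n (a i) (a 0) 0]
  rfl

theorem mpx_comp {l m n : ℕ} (b : Fin (m + 1) → Fin (n + 1)) (a : Fin (l + 1) → Fin (m + 1)) (z : BC (X.pt l 0) M) :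
    V.mpx (fun i => b (a i)) z = V.mpx b (V.mpx a z) := by
  rw [V.mpx_apply a z, mpx_act, mpx_apply]
  have h : rg E (ar (fun i => b (a i))) = (rg E (ar b)).comp (rg E (ar a)) := rg_comp E (ar b) (ar a)
  have h2 : ((rg E (ar b)).comp (rg E (ar a))).comp (X.pt l 0) = X.pt n (b (a 0)) := by
    rw [← h]
    exact X.f_pt (fun i => b (a i)) 0
  rw [BC.tr_tr (X.f_pt a 0) (X.f_pt b (a 0)) h2]
  exact congrArg _ (tr_congr h _ h2 z)

theorem mpx_id {n : ℕ} (z : BC (X.pt n 0) M) : V.mpx (fun i => i) z = z := by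
  rw [mpx_apply]
  have h : rg E (ar (fun i : Fin (n + 1) => i)) = RingHom.id _ := rg_id E (⟨n⟩ : NF)
  have h2 : BC.tr (rg E (ar (fun i : Fin (n + 1) => i))) (X.f_pt (fun i => i) 0) z = z :=
    (tr_congr h _ (RingHom.id_comp _) z).trans (BC.tr_id _ z)
  have h3 := V.act_id n 0
  have h4 : V.act n 0 0 (BC.tr (rg E (ar (fun i : Fin (n + 1) => i))) (X.f_pt (fun i => i) 0) z) =
      BC.tr (rg E (ar (fun i : Fin (n + 1) => i))) (X.f_pt (fun i => i) 0) z := by rw [h3]; rfl
  exact h4.trans h2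

/-- the presheaf of modules -/
@[reducible] noncomputable def pm : PM.{u} E where
  obj a := BC (X.pt a.n 0) M
  grp _ := inferInstance
  mod _ := inferInstance
  map {x z} φ := (V.mpx (show Fin (z.n + 1) → Fin (x.n + 1) from φ)).toAddMonoidHom
  map_smul {x z} φ r m := (V.mpx (show Fin (z.n + 1) → Fin (x.n + 1) from φ)).map_smulₛₗ r m
  map_id _ m := V.mpx_id m
  map_comp {y x z} ψ φ m := V.mpx_comp (show Fin (x.n + 1) → Fin (y.n + 1) from ψ)
    (show Fin (z.n + 1) → Fin (x.n + 1) from φ) m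

theorem pm_cart : V.pm.Cart := fun a b φ =>
  (isBC_tr (M := M) (X.f_pt (show Fin (b.n + 1) → Fin (a.n + 1) from φ) 0)).of_equiv
    (V.act a.n ((show Fin (b.n + 1) → Fin (a.n + 1) from φ) 0) 0) fun _ => rfl

end VAct

/-! ### algebras -/

section BCalg

variable {R' : Type u} {R'' : Type u} [CommRing R'] [CommRing R''] {x : R →+* R'} {x' : R →+* R''}
variable {M N Q : Type u} [AddCommGroup M] [Module R M] [AddCommGroup N] [Module R N] [AddCommGroup Q] [Module R Q]

theorem tr_bil {f : R' →+* R''} (hx : f.comp x = x') (β : M →ₗ[R] N →ₗ[R] Q) (m : BC x M) (n : BC x N) :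
    BC.tr f hx (BC.bil x β m n) = BC.bil x' β (BC.tr f hx m) (BC.tr f hx n) := by
  induction m using BC.ind with
  | h0 => simp
  | h1 r m =>
    induction n using BC.ind with
    | h0 => simp
    | h1 s n => simp [LinearMap.map_smulₛₗ]
    | h2 a b ha hb => rw [map_add, map_add, map_add, map_add, ha, hb]
  | h2 a b ha hb =>
    rw [map_add, LinearMap.add_apply, map_add, map_add, map_add, LinearMap.add_apply, ha, hb]

variable {D : Type u} [CommRing D] [Algebra R D] [Module D M] [IsScalarTower R D M]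

theorem bil_one_smul (m : BC x M) : BC.bil x (smulR R D M) (bc x 1) m = m := by
  induction m using BC.ind with
  | h0 => simp
  | h1 s n => simp
  | h2 a b ha hb => rw [map_add, ha, hb]

theorem bil_mul_smul (a b : BC x D) (m : BC x M) :
    BC.bil x (smulR R D M) (BC.bil x (mulR R D) a b) m = BC.bil x (smulR R D M) a (BC.bil x (smulR R D M) b m) := by
  induction a using BC.ind with
  | h0 => simp
  | h1 r a =>
    induction b using BC.ind with
    | h0 => simp
    | h1 s b =>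
      induction m using BC.ind with
      | h0 => simp
      | h1 t n =>
        simp only [LinearMap.map_smul, LinearMap.smul_apply, BC.bil_bc, smulR_apply]
        rw [show (mulR R D a) b = a * b from rfl, mul_smul, smul_comm r s]
      | h2 a b ha hb => rw [map_add, map_add, map_add, ha, hb]
    | h2 a b ha hb => rw [map_add, map_add, map_add, LinearMap.add_apply, LinearMap.add_apply, map_add, ha, hb]
  | h2 a b ha hb =>
    rw [map_add, map_add, LinearMap.add_apply, LinearMap.add_apply, map_add, LinearMap.add_apply, ha, hb]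

end BCalg

variable (X : Vx R E) (D : Type u) [CommRing D] [Algebra R D]

/-- the values `G⟨n⟩` of an `R`-algebra `D` at the levels -/
structure AlgLev where
  G : NFᵒᵖ ⥤ CommRingCat.{u}
  j : E ⟶ G
  cart : CartHom j
  δ : ∀ n : ℕ, Fin (n + 1) → (D →+* G.obj (op ⟨n⟩))
  δ_nat : ∀ {m n : ℕ} (a : Fin (m + 1) → Fin (n + 1)) (i : Fin (m + 1)), (rg G (ar a)).comp (δ m i) = δ n (a i)
  po : ∀ (n : ℕ) (i : Fin (n + 1)), IsPO (X.pt n i) (algebraMap R D) (j.app (op ⟨n⟩)).hom (δ n i)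

variable {X D}

namespace AlgLev

variable (Y : AlgLev X D)

theorem comm (n : ℕ) (i : Fin (n + 1)) (r : R) :
    (Y.j.app (op ⟨n⟩)).hom (X.pt n i r) = Y.δ n i (algebraMap R D r) := congr($((Y.po n i).comm) r)

/-- `BC (pt n i) D → G⟨n⟩` -/
noncomputable def bD (n : ℕ) (i : Fin (n + 1)) : BC (X.pt n i) D →ₛₗ[(Y.j.app (op ⟨n⟩)).hom] Y.G.obj (op ⟨n⟩) :=
  BC.lift (x := X.pt n i) (σ := (Y.j.app (op ⟨n⟩)).hom) (τ := (Y.j.app (op ⟨n⟩)).hom.comp (X.pt n i)) rfl
    { toFun := fun d => Y.δ n i d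
      map_add' := map_add _
      map_smul' := fun r d => by
        rw [Algebra.smul_def, map_mul, ← Y.comm]
        rfl }

@[simp] theorem bD_bc (n : ℕ) (i : Fin (n + 1)) (d : D) : Y.bD n i (bc (X.pt n i) d) = Y.δ n i d :=
  BC.lift_bc (x := X.pt n i) _ _ d

theorem bD_smul (n : ℕ) (i : Fin (n + 1)) (r : E.obj (op ⟨n⟩)) (d : BC (X.pt n i) D) :
    Y.bD n i (r • d) = (Y.j.app (op ⟨n⟩)).hom r * Y.bD n i d := (Y.bD n i).map_smulₛₗ r d

theorem bD_mul (n : ℕ) (i : Fin (n + 1)) (a b : BC (X.pt n i) D) :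
    Y.bD n i (BC.bil _ (mulR R D) a b) = Y.bD n i a * Y.bD n i b := by
  induction a using BC.ind with
  | h0 => simp
  | h1 r a =>
    induction b using BC.ind with
    | h0 => simp
    | h1 s b =>
      have h1 : BC.bil (X.pt n i) (mulR R D) (r • bc (X.pt n i) a) (s • bc (X.pt n i) b) =
          s • r • bc (X.pt n i) (a * b) := by
        rw [LinearMap.map_smul, LinearMap.map_smul, LinearMap.smul_apply, BC.bil_bc]
        rfl
      rw [h1, bD_smul, bD_smul, bD_smul, bD_smul, bD_bc, bD_bc, bD_bc, map_mul]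
      ring
    | h2 a b ha hb => rw [map_add, map_add, map_add, mul_add, ha, hb]
  | h2 a b ha hb => rw [map_add, LinearMap.add_apply, map_add, map_add, add_mul, ha, hb]

theorem bD_bijective (n : ℕ) (i : Fin (n + 1)) : Function.Bijective (Y.bD n i) := by
  letI : Module (E.obj (op ⟨n⟩)) (Y.G.obj (op ⟨n⟩)) := Module.compHom _ (Y.j.app (op ⟨n⟩)).hom
  have h0 : IsBC (Y.δ n i) (Y.δ n i : D →+ Y.G.obj (op ⟨n⟩)) := by
    refine IsBC.of_lift (fun a m => (Y.δ n i).map_mul a m) (fun Q _ _ g hg => ?_)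
    refine ⟨(LinearMap.toSpanSingleton _ Q (g 1)), fun m => ?_, fun g' hg' => ?_⟩
    · change Y.δ n i m • g 1 = g m
      rw [← hg, smul_eq_mul, mul_one]
    · ext
      rw [LinearMap.toSpanSingleton_apply, one_smul, ← hg']
      exact congrArg g' (map_one (Y.δ n i)).symm
  have h1 : IsBC (X.pt n i) (Y.δ n i : D →+ Y.G.obj (op ⟨n⟩)) :=
    IsBC.of_po (Y.po n i) (fun r m => Algebra.smul_def r m) (fun _ _ => rfl) h0
  let g : BC (X.pt n i) D →ₗ[E.obj (op ⟨n⟩)] Y.G.obj (op ⟨n⟩) :=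
    { (Y.bD n i).toAddMonoidHom with map_smul' := fun r d => Y.bD_smul n i r d }
  exact (isBC_bc (X.pt n i) D).bijective_of_isBC h1 g fun m => Y.bD_bc n i m

theorem bD_tr {m n : ℕ} (a : Fin (m + 1) → Fin (n + 1)) (i : Fin (m + 1)) (d : BC (X.pt m i) D) :
    Y.bD n (a i) (BC.tr (rg E (ar a)) (X.f_pt a i) d) = rg Y.G (ar a) (Y.bD m i d) := by
  induction d using BC.ind with
  | h0 => simp
  | h1 r d =>
    rw [LinearMap.map_smulₛₗ, bD_smul, bD_smul, BC.tr_bc, bD_bc, bD_bc, map_mul, ← Y.δ_nat a i]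
    congr 1
    exact congr($(Y.j.naturality (ar a).op).hom r)
  | h2 a b ha hb => rw [map_add, map_add, map_add, map_add, ha, hb]

/-- the inverse of `bD` -/
noncomputable def iD (n : ℕ) (i : Fin (n + 1)) (s : Y.G.obj (op ⟨n⟩)) : BC (X.pt n i) D :=
  (Equiv.ofBijective _ (Y.bD_bijective n i)).symm s

@[simp] theorem bD_iD (n : ℕ) (i : Fin (n + 1)) (s : Y.G.obj (op ⟨n⟩)) : Y.bD n i (Y.iD n i s) = s :=
  (Equiv.ofBijective _ (Y.bD_bijective n i)).apply_symm_apply s

@[simp] theorem iD_bD (n : ℕ) (i : Fin (n + 1)) (d : BC (X.pt n i) D) : Y.iD n i (Y.bD n i d) = d :=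
  (Equiv.ofBijective _ (Y.bD_bijective n i)).symm_apply_apply d

variable {M : Type u} [AddCommGroup M] [Module R M] [Module D M] [IsScalarTower R D M]

/-- the `G⟨n⟩`-module structure on `BC (pt n i) M` -/
@[reducible] noncomputable def semiMod (M : Type u) [AddCommGroup M] [Module R M] [Module D M] [IsScalarTower R D M] (n : ℕ)
    (i : Fin (n + 1)) : Module (Y.G.obj (op ⟨n⟩)) (BC (X.pt n i) M) where
  smul s m := BC.bil (X.pt n i) (smulR R D M) (Y.iD n i s) m
  one_smul m := by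
    change BC.bil (X.pt n i) (smulR R D M) (Y.iD n i 1) m = m
    have : Y.iD n i 1 = bc (X.pt n i) 1 := (Y.bD_bijective n i).1 (by simp)
    rw [this, bil_one_smul]
  mul_smul s t m := by
    change BC.bil (X.pt n i) (smulR R D M) (Y.iD n i (s * t)) m = _
    have : Y.iD n i (s * t) = BC.bil _ (mulR R D) (Y.iD n i s) (Y.iD n i t) :=
      (Y.bD_bijective n i).1 (by rw [bD_mul]; simp)
    rw [this, bil_mul_smul]
    rfl
  smul_zero s := map_zero _
  smul_add s m m' := map_add _ _ _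
  add_smul s t m := by
    change BC.bil (X.pt n i) (smulR R D M) (Y.iD n i (s + t)) m = _
    have : Y.iD n i (s + t) = Y.iD n i s + Y.iD n i t :=
      (Y.bD_bijective n i).1 (by rw [map_add (Y.bD n i), bD_iD, bD_iD, bD_iD])
    rw [this, map_add]
    rfl
  zero_smul m := by
    change BC.bil (X.pt n i) (smulR R D M) (Y.iD n i 0) m = _
    have : Y.iD n i 0 = 0 := (Y.bD_bijective n i).1 (by rw [map_zero (Y.bD n i), bD_iD])
    rw [this, map_zero]
    rfl

theorem semiMod_smul (n : ℕ) (i : Fin (n + 1)) (d : BC (X.pt n i) D) (m : BC (X.pt n i) M) :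
    (letI := Y.semiMod M n i; Y.bD n i d • m) = BC.bil (X.pt n i) (smulR R D M) d m := by
  change BC.bil (X.pt n i) (smulR R D M) (Y.iD n i (Y.bD n i d)) m = _
  rw [iD_bD]

theorem semiMod_j (n : ℕ) (i : Fin (n + 1)) (r : E.obj (op ⟨n⟩)) (m : BC (X.pt n i) M) :
    r • m = (letI := Y.semiMod M n i; (Y.j.app (op ⟨n⟩)).hom r • m) := by
  have : (Y.j.app (op ⟨n⟩)).hom r = Y.bD n i (r • bc (X.pt n i) 1) := by rw [bD_smul, bD_bc, map_one, mul_one]
  rw [this, semiMod_smul, map_smul, LinearMap.smul_apply, bil_one_smul]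

end AlgLev

namespace VAct

variable {M : Type u} [AddCommGroup M] [Module R M] [Module D M] [IsScalarTower R D M]

/-- the action on `M` is semilinear over the one on `D` -/
def Semi (V : VAct X M) (Y : AlgLev X D) : Prop :=
  ∀ (n : ℕ) (i j : Fin (n + 1)) (d : BC (X.pt n i) D) (d' : BC (X.pt n j) D), Y.bD n j d' = Y.bD n i d →
    ∀ m : BC (X.pt n i) M, V.act n i j (BC.bil _ (smulR R D M) d m) = BC.bil _ (smulR R D M) d' (V.act n i j m)

variable {V : VAct X M} {Y : AlgLev X D}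

theorem Semi.mpx_smul (h : V.Semi Y) {m n : ℕ} (a : Fin (m + 1) → Fin (n + 1)) (s : Y.G.obj (op ⟨m⟩))
    (z : BC (X.pt m 0) M) :
    V.mpx a (letI := Y.semiMod M m 0; s • z) = (letI := Y.semiMod M n 0; rg Y.G (ar a) s • V.mpx a z) := by
  obtain ⟨d, rfl⟩ := (Y.bD_bijective m 0).2 s
  rw [Y.semiMod_smul, mpx_apply, tr_bil, ← Y.bD_tr]
  obtain ⟨d', hd'⟩ := (Y.bD_bijective n 0).2 (Y.bD n (a 0) (BC.tr (rg E (ar a)) (X.f_pt a 0) d))
  rw [← hd', Y.semiMod_smul, h n (a 0) 0 _ d' hd']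
  rfl

/-- the cartesian module over `G` -/
@[reducible] noncomputable def pmD (h : V.Semi Y) : PM.{u} Y.G :=
  letI : ∀ a : NF, Module (Y.G.obj (op a)) (V.pm.obj a) := fun a => Y.semiMod M a.n 0
  ofAct (D := Y.G) V.pm (fun {a b} φ r x => h.mpx_smul (show Fin (b.n + 1) → Fin (a.n + 1) from φ) r x)

theorem pmD_cart (h : V.Semi Y) : (pmD h).Cart :=
  letI : ∀ a : NF, Module (Y.G.obj (op a)) (V.pm.obj a) := fun a => Y.semiMod M a.n 0
  ofAct_cart Y.cart V.pm_cart (fun {a b} φ r x => h.mpx_smul (show Fin (b.n + 1) → Fin (a.n + 1) from φ) r x)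
    (fun a r x => Y.semiMod_j a.n 0 r x)

end VAct

/-- **(AD2)** -/
theorem H1_H2_of_semi {M : Type u} [AddCommGroup M] [Module R M] [Module D M] [IsScalarTower R D M] {V : VAct X M}
    {Y : AlgLev X D} (h : V.Semi Y) {C : Type u} [CommRing C] {c : C →+* Y.G.obj (op ⟨0⟩)} (hc : IsGal Y.G c)
    {Hg : Type v} [Group Hg] (T : K363.TS.{w₁, v, u} Hg) (q : ℕ) (e : ∀ n, T.M q n ≃+ BC (X.pt n 0) M)
    (he : ∀ {m n : ℕ} (a : Fin (m + 1) → Fin (n + 1)) (z : T.M q m), e n (T.Mp q a z) = V.mpx a (e m z)) :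
    T.H1 q ∧ T.H2 q :=
  ⟨H1_of_gal (N := VAct.pmD h) hc (VAct.pmD_cart h) T q e fun a z => he a z,
    H2_of_gal (N := VAct.pmD h) hc (VAct.pmD_cart h) T q e fun a z => he a z⟩

end Groth.Agent.ResProp.EF.K431
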