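import Groth.Agent.ResProp.EF.K363.Lev
import Groth.Agent.ResProp.EF.K698.Gr
import Groth.Agent.ResProp.EF.K431.LevPM

/-!
# (AD2) `H¹ = H² = 0` for the transport system of an `AlgPkg`

`A` a groupoid ring, `incl : A ⟶ E` (for us `E⟨n⟩ = A⟨n⟩ ⊗ B`), `X : AlgPkg P`, `W` arrows over the levels of `E`.

* `eMM` : `MM q n ≃+ BC (x n 0) (gr^q DD)`, `eMM_clsi`, `eMM_Mp`;
* `grV` : the vertex action on `gr^q DD`, `grV_semi` : semilinear over `D`;
* **`H1_H2_of_algPkg`** : if the arrows `W n i j 1` act on `D` as the groupoid does (`hη`) and the groupoid ring `Y.G` of `D` over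
  `E` is Galois, then `(ts X W).H1 q` and `(ts X W).H2 q` for all `q ≥ 1`.
-/

set_option autoImplicit false
set_option linter.dupNamespace false
set_option linter.style.haveILetI false

open CategoryTheory Opposite TensorProduct

namespace Groth.Agent.ResProp.EF.K431

open K784.BC K784.PM EF56 K980 K363

universe v u

section Cls

variable {R : Type u} [CommRing R] {P : PGpd.{u} R} {Lv : LvRing.{u} R} {Hg : Type v} [Group Hg] (X : AlgPkg.{u} P)
  (W : LvArr P Lv Hg)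

/-- the class map at the vertex `0` -/
noncomputable def eHom (r n : ℕ) :
    (nfX X.toOpCpx (Lv.x n 0)).F r →+ BC (Lv.x n 0) (K698.grD X.toOpCpx (r + 1)) where
  toFun L := K698.cls X.DD (Lv.x n 0) (r + 1) L.1
  map_zero' := K698.cls_zero (K698.inj_opr (Lv.flat n 0) (Nat.succ_pos r))
  map_add' L M := K698.cls_add (K698.inj_opr (Lv.flat n 0) (Nat.succ_pos r))
    (by rw [← K698.DDx_eq]; exact L.2) (by rw [← K698.DDx_eq]; exact M.2)

theorem eHom_ker (r n : ℕ) (L : (nfX X.toOpCpx (Lv.x n 0)).F r) : eHom X r n L = 0 ↔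
    L.1 ∈ (nfX X.toOpCpx (Lv.x n 0)).F (r + 1) := by
  have h1 : L.1 ∈ K698.DDx X.DD (Lv.x n 0) (r + 1) := by
    rw [← K698.DDx_eq]; exact L.2
  constructor
  · intro h
    have := K698.cls_eq_zero (K698.inj_opr (Lv.flat n 0) (Nat.succ_pos r)) (X.DD_succ (r + 1)) h1 h
    rw [← K698.DDx_eq] at this
    exact this
  · intro h
    have h2 : L.1 ∈ K698.DDx X.DD (Lv.x n 0) (r + 1 + 1) := by
      rw [← K698.DDx_eq]; exact h
    exact K698.cls_of_mem (K698.inj_opr (Lv.flat n 0) (Nat.succ_pos r)) (X.DD_succ (r + 1)) h2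

/-- the graded piece as a quotient of `F r` -/
noncomputable def eMM0 (r n : ℕ) :
    ((nfX X.toOpCpx (Lv.x n 0)).F r ⧸ ((nfX X.toOpCpx (Lv.x n 0)).F (r + 1)).addSubgroupOf
      ((nfX X.toOpCpx (Lv.x n 0)).F r)) ≃+ BC (Lv.x n 0) (K698.grD X.toOpCpx (r + 1)) :=
  AddEquiv.ofBijective (QuotientAddGroup.lift _ (eHom X r n) (fun L hL => by
      rw [AddSubgroup.mem_addSubgroupOf] at hL
      exact (eHom_ker X r n L).2 hL))
    ⟨by
      rw [injective_iff_map_eq_zero]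
      intro z hz
      obtain ⟨L, rfl⟩ := QuotientAddGroup.mk_surjective z
      rw [QuotientAddGroup.eq_zero_iff, AddSubgroup.mem_addSubgroupOf]
      exact (eHom_ker X r n L).1 hz, fun z => by
      obtain ⟨φ, hφ, rfl⟩ := K698.cls_surj (K698.inj_opr (Lv.flat n 0) (Nat.succ_pos r)) z
      rw [← K698.DDx_eq] at hφ
      exact ⟨QuotientAddGroup.mk ⟨φ, hφ⟩, rfl⟩⟩

/-- the graded piece of the transport system is the graded piece of the operators -/
noncomputable def eMM (r n : ℕ) : (opSys X W).MM (r + 1) n ≃+ BC (Lv.x n 0) (K698.grD X.toOpCpx (r + 1)) :=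
  eMM0 X r n

theorem eMM_cls {r n : ℕ} {L : BC (Lv.x n 0) X.K →ₗ[Lv.Rn n] BC (Lv.x n 0) X.K} (hL : L ∈ X.DDx (Lv.x n 0) (r + 1)) :
    eMM X W r n ((opSys X W).cls (r + 1) n L) = K698.cls X.DD (Lv.x n 0) (r + 1) L := by
  have h : (opSys X W).cls (r + 1) n L = QuotientAddGroup.mk ⟨L, hL⟩ := OpSys.cls_of (O := opSys X W) (q := r + 1) hL
  rw [h]
  rfl

theorem eMM_clsi {r n : ℕ} (i : Fin (n + 1)) {L : BC (Lv.x n i) X.K →ₗ[Lv.Rn n] BC (Lv.x n i) X.K}
    (hL : L ∈ X.DDx (Lv.x n i) (r + 1)) : eMM X W r n ((opSys X W).clsi (r + 1) n i L) =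
      K698.grAct (Lv.flat n i) (Lv.flat n 0) (W.arr n i 0 1) (Nat.succ_pos r) (K698.cls X.DD (Lv.x n i) (r + 1) L) := by
  obtain ⟨g, hg0, hg⟩ : ∃ g : BC (Lv.x n i) X.K ≃ₗ[Lv.Rn n] BC (Lv.x n 0) X.K, g = (opSys X W).g0 n i ∧
    g ∈ X.L (W.arr n i 0 1) := ⟨_, rfl, (opSys X W).g0_good n i⟩
  have h2 : L ∈ K698.DDx X.DD (Lv.x n i) (r + 1) := by rw [← K698.DDx_eq]; exact hL
  rw [K698.grAct_cls (Lv.flat n i) (Lv.flat n 0) (Nat.succ_pos r) hg h2]
  have h4 : (opSys X W).clsi (r + 1) n i L = (opSys X W).cls (r + 1) n (K698.cjg g L) := by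
    unfold OpSys.clsi
    rw [← hg0]
    rfl
  rw [h4]
  refine eMM_cls X W ?_
  rw [K698.DDx_eq]
  exact K698.conj_mem (Lv.flat n i) (Lv.flat n 0) hg (Nat.succ_pos r) h2

end Cls

section Main

variable {A E : NFᵒᵖ ⥤ CommRingCat.{u}} (incl : A ⟶ E)

/-- the vertices of `E` as points of `R = A⟨0⟩` -/
def vxOf : Vx (A.obj (op ⟨0⟩)) E where
  pt n i := (rg E (pt ⟨n⟩ i)).comp (incl.app (op ⟨0⟩)).hom
  f_pt a i := by
    rw [← RingHom.comp_assoc, ← rg_comp]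
    rfl

variable {incl} (h0 : (incl.app (op ⟨0⟩)).hom.Flat) (hE : GR E) {P : PGpd.{u} (A.obj (op ⟨0⟩))} {Hg : Type v} [Group Hg]
  (X : AlgPkg.{u} P) (W : LvArr P (lvOf incl h0 hE) Hg)

/-- the vertex action on `gr^q DD` -/
noncomputable def grV {q : ℕ} (hq : 1 ≤ q) : VAct (vxOf incl) (K698.grD X.toOpCpx q) where
  act n i j := K698.grAct ((lvOf incl h0 hE).flat n i) ((lvOf incl h0 hE).flat n j) (W.arr n i j 1) hq
  act_id n i := by
    rw [W.arr_one]
    exact K698.grAct_id _ hq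
  act_comp n i j k := by
    have h := W.arr_comp n i j k 1 1
    rw [one_mul] at h
    rw [← h]
    exact (K698.grAct_comp _ _ _ _ _ hq).symm
  act_pull {m n} a i j := by
    rw [← W.arr_pull a i j 1]
    exact (K698.grAct_pull _ _ _ _ _ _ _ _ hq).symm

theorem eMM_Mp {r m n : ℕ} (a : Fin (m + 1) → Fin (n + 1)) (z : (opSys X W).MM (r + 1) m) :
    eMM X W r n ((opSys X W).MpM (r + 1) a z) = (grV h0 hE X W (Nat.succ_pos r)).mpx a (eMM X W r m z) := by
  obtain ⟨L, hL, rfl⟩ := OpSys.clsi_surj (O := opSys X W) (0 : Fin (m + 1)) z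
  rw [OpSys.MpM_clsi a hL]
  rw [eMM_clsi X W 0 hL]
  refine (eMM_clsi X W (a 0) ((opSys X W).bc_N a hL)).trans ?_
  have h2 : L ∈ K698.DDx X.DD ((lvOf incl h0 hE).x m 0) (r + 1) := by rw [← K698.DDx_eq]; exact hL
  have h3 : K698.grAct ((lvOf incl h0 hE).flat m 0) ((lvOf incl h0 hE).flat m 0) (W.arr m 0 0 1) (Nat.succ_pos r)
      (K698.cls X.DD ((lvOf incl h0 hE).x m 0) (r + 1) L) = K698.cls X.DD ((lvOf incl h0 hE).x m 0) (r + 1) L := by
    rw [W.arr_one, K698.grAct_id _ (Nat.succ_pos r)]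
    rfl
  rw [h3]
  have h4 := K698.cls_pull (x := (lvOf incl h0 hE).x m 0) (x' := (lvOf incl h0 hE).x n (a 0))
    ((lvOf incl h0 hE).r_x a 0) (K698.inj_opr ((lvOf incl h0 hE).flat m 0) (Nat.succ_pos r))
    (K698.inj_opr ((lvOf incl h0 hE).flat n (a 0)) (Nat.succ_pos r)) h2
  exact congrArg _ h4

variable (Y : AlgLev (vxOf incl) X.D)

/-- the arrows of degree one act on `D` as the groupoid does -/
def EtaComp : Prop := ∀ (n : ℕ) (i j : Fin (n + 1)) (d : BC ((vxOf incl).pt n i) X.D),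
  Y.bD n j (X.eta.act (W.arr n i j 1) d) = Y.bD n i d

variable {Y}

theorem grV_semi {q : ℕ} (hq : 1 ≤ q) (hη : EtaComp h0 hE X W Y) : (grV h0 hE X W hq).Semi Y := by
  intro n i j d d' hd m
  have h1 : d' = X.eta.act (W.arr n i j 1) d := (Y.bD_bijective n j).1 (hd.trans (hη n i j d).symm)
  rw [h1]
  exact K698.grAct_smul _ _ _ hq d m

/-- **(AD2)** -/
theorem H1_H2_of_algPkg (hη : EtaComp h0 hE X W Y) {C : Type u} [CommRing C] {c : C →+* Y.G.obj (op ⟨0⟩)}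
    (hc : IsGal Y.G c) {q : ℕ} (hq : 1 ≤ q) : (ts X W).H1 q ∧ (ts X W).H2 q := by
  obtain ⟨r, rfl⟩ : ∃ r, q = r + 1 := ⟨q - 1, by omega⟩
  exact H1_H2_of_semi (grV_semi h0 hE X W (Nat.succ_pos r) hη) hc (ts X W) (r + 1) (fun n => eMM X W r n)
    fun a z => eMM_Mp h0 hE X W a z

end Main

end Groth.Agent.ResProp.EF.K431
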