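import Groth.Agent.ResProp.EF.K431.AD2
import Groth.Agent.ResProp.EF.K363.LevN

/-!
# (AD2) for any system of levels

The same as `AD2.lean`, for any `Lv : LvRing R` with `Lv.r id = id` (`lvFun Lv hid` : its rings as a functor on `NF`).
`H1_H2_of_lv` ; for 363's `lvB k hA B`: `lvB_id`.
-/

set_option autoImplicit false
set_option linter.dupNamespace false
set_option linter.style.haveILetI false

open CategoryTheory Opposite TensorProduct

namespace Groth.Agent.ResProp.EF.K431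

open K784.BC K784.PM EF56 K980 K363

universe v u

section Lv

variable {R : Type u} [CommRing R] (Lv : LvRing.{u} R)
  (hid : ∀ n : ℕ, Lv.r (fun i : Fin (n + 1) => i) = RingHom.id (Lv.Rn n))

/-- the rings of the levels as a functor -/
def lvFun : NFᵒᵖ ⥤ CommRingCat.{u} where
  obj a := CommRingCat.of (Lv.Rn a.unop.n)
  map {a b} φ := CommRingCat.ofHom (Lv.r (show Fin (a.unop.n + 1) → Fin (b.unop.n + 1) from φ.unop))
  map_id a := congrArg CommRingCat.ofHom (hid a.unop.n)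
  map_comp {a b c} φ ψ := by
    rw [← CommRingCat.ofHom_comp]
    exact congrArg CommRingCat.ofHom (Lv.r_r (show Fin (b.unop.n + 1) → Fin (c.unop.n + 1) from ψ.unop)
      (show Fin (a.unop.n + 1) → Fin (b.unop.n + 1) from φ.unop)).symm

/-- the vertices -/
def vxLv : Vx R (lvFun Lv hid) where
  pt n i := Lv.x n i
  f_pt a i := Lv.r_x a i

variable {Lv} {P : PGpd.{u} R} {Hg : Type v} [Group Hg] (X : AlgPkg.{u} P) (W : LvArr P Lv Hg)

/-- the vertex action on `gr^q DD` -/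
noncomputable def grVLv {q : ℕ} (hq : 1 ≤ q) : VAct (vxLv Lv hid) (K698.grD X.toOpCpx q) where
  act n i j := K698.grAct (Lv.flat n i) (Lv.flat n j) (W.arr n i j 1) hq
  act_id n i := by
    rw [W.arr_one]
    exact K698.grAct_id _ hq
  act_comp n i j k := by
    have h := W.arr_comp n i j k 1 1
    rw [one_mul] at h
    rw [← h]
    exact (K698.grAct_comp _ _ _ _ _ hq).symm
  act_pull {m n} a i j := by
    rw [← W.arr_pull a i j 1]
    exact (K698.grAct_pull _ _ _ _ _ _ _ _ hq).symm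

theorem eMM_MpLv {r m n : ℕ} (a : Fin (m + 1) → Fin (n + 1)) (z : (opSys X W).MM (r + 1) m) :
    eMM X W r n ((opSys X W).MpM (r + 1) a z) = (grVLv hid X W (Nat.succ_pos r)).mpx a (eMM X W r m z) := by
  obtain ⟨L, hL, rfl⟩ := OpSys.clsi_surj (O := opSys X W) (0 : Fin (m + 1)) z
  rw [OpSys.MpM_clsi a hL]
  rw [eMM_clsi X W 0 hL]
  refine (eMM_clsi X W (a 0) ((opSys X W).bc_N a hL)).trans ?_
  have h2 : L ∈ K698.DDx X.DD (Lv.x m 0) (r + 1) := by rw [← K698.DDx_eq]; exact hL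
  have h3 : K698.grAct (Lv.flat m 0) (Lv.flat m 0) (W.arr m 0 0 1) (Nat.succ_pos r)
      (K698.cls X.DD (Lv.x m 0) (r + 1) L) = K698.cls X.DD (Lv.x m 0) (r + 1) L := by
    rw [W.arr_one, K698.grAct_id _ (Nat.succ_pos r)]
    rfl
  rw [h3]
  have h4 := K698.cls_pull (x := Lv.x m 0) (x' := Lv.x n (a 0)) (Lv.r_x a 0)
    (K698.inj_opr (Lv.flat m 0) (Nat.succ_pos r)) (K698.inj_opr (Lv.flat n (a 0)) (Nat.succ_pos r)) h2
  exact congrArg _ h4

variable (Y : AlgLev (vxLv Lv hid) X.D)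

/-- the arrows of degree one act on `D` as the groupoid does -/
def EtaCompLv : Prop := ∀ (n : ℕ) (i j : Fin (n + 1)) (d : BC (Lv.x n i) X.D),
  Y.bD n j (X.eta.act (W.arr n i j 1) d) = Y.bD n i d

variable {Y}

theorem grVLv_semi {q : ℕ} (hq : 1 ≤ q) (hη : EtaCompLv hid X W Y) : (grVLv hid X W hq).Semi Y := by
  intro n i j d d' hd m
  have h1 : d' = X.eta.act (W.arr n i j 1) d := (Y.bD_bijective n j).1 (hd.trans (hη n i j d).symm)
  rw [h1]
  exact K698.grAct_smul _ _ _ hq d m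

/-- **(AD2)**, any levels -/
theorem H1_H2_of_lv (hη : EtaCompLv hid X W Y) {C : Type u} [CommRing C] {c : C →+* Y.G.obj (op ⟨0⟩)}
    (hc : IsGal Y.G c) {q : ℕ} (hq : 1 ≤ q) : (ts X W).H1 q ∧ (ts X W).H2 q := by
  obtain ⟨r, rfl⟩ : ∃ r, q = r + 1 := ⟨q - 1, by omega⟩
  exact H1_H2_of_semi (grVLv_semi hid X W (Nat.succ_pos r) hη) hc (ts X W) (r + 1) (fun n => eMM X W r n)
    fun a z => eMM_MpLv hid X W a z

end Lv

section LvB

variable {k : Type u} [CommRing k] {A : NFᵒᵖ ⥤ CommRingCat.{u}} [Arch.GRF k A]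

/-- 363's levels `B ⊗ A⟨n⟩` satisfy the hypothesis -/
theorem lvB_id (hA : GR A) (B : Type u) [CommRing B] [Algebra k B] [Module.Flat k B] (n : ℕ) :
    (lvB k hA B).r (fun i : Fin (n + 1) => i) = RingHom.id ((lvB k hA B).Rn n) := by
  have h1 : rgk k A (vmap (fun i : Fin (n + 1) => i)) = AlgHom.id k (A.obj (op ⟨n⟩)) := by
    ext r
    change rg A (𝟙 (⟨n⟩ : NF)) r = r
    rw [rg_id]
    rfl
  change (Algebra.TensorProduct.map (AlgHom.id k B) (rgk k A (vmap (fun i : Fin (n + 1) => i)))).toRingHom = _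
  rw [h1, Algebra.TensorProduct.map_id]
  rfl

end LvB

end Groth.Agent.ResProp.EF.K431
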