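import Groth.Agent.ResProp.EF.K431.LevPM
import Groth.Agent.ResProp.EF.K477.TensNF
import Groth.Agent.ResProp.EF.Arch

/-!
# The level algebra of a stack affine over `A`

`tnMap B j : tn B A ⟶ tn B D` for `j : A ⟶ D`, cartesian if `j` is.
`algLevOf` : `AlgLev (vxOf' incl) D⟨0⟩` from a commutative square of groupoid rings with cartesian sides.
`algLevTn` : the case `E = B ⊗ A`, `G = B ⊗ Y.D` (`Y : Arch.AffOver A`), with `isGal_tn` : Galois over `B ⊗ C`.
-/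

set_option autoImplicit false
set_option linter.dupNamespace false
set_option linter.style.haveILetI false

open CategoryTheory Opposite TensorProduct

namespace Groth.Agent.ResProp.EF.K431

open K784.BC K784.PM EF56 K980 K477

universe v u

section Sq

variable {A E : NFᵒᵖ ⥤ CommRingCat.{u}} (incl : A ⟶ E)

/-- the vertices of `E` as points of `R = A⟨0⟩` (the same as `vxOf` of `AD2.lean`) -/
def vxE : Vx (A.obj (op ⟨0⟩)) E where
  pt n i := (rg E (pt ⟨n⟩ i)).comp (incl.app (op ⟨0⟩)).hom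
  f_pt a i := by
    rw [← RingHom.comp_assoc, ← rg_comp]
    rfl

variable {incl} {D G : NFᵒᵖ ⥤ CommRingCat.{u}} {jD : A ⟶ D} {j' : E ⟶ G} {inclD : D ⟶ G}

/-- the level algebra of `D⟨0⟩`, any `R`-algebra structure on it which is `jD⟨0⟩` -/
def algLevOf [alg : Algebra (A.obj (op ⟨0⟩)) (D.obj (op ⟨0⟩))]
    (halg : algebraMap (A.obj (op ⟨0⟩)) (D.obj (op ⟨0⟩)) = (jD.app (op ⟨0⟩)).hom) (hj' : CartHom j')
    (h0 : IsPO (incl.app (op ⟨0⟩)).hom (jD.app (op ⟨0⟩)).hom (j'.app (op ⟨0⟩)).hom (inclD.app (op ⟨0⟩)).hom) :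
    AlgLev (vxE incl) (D.obj (op ⟨0⟩)) where
  G := G
  j := j'
  cart := hj'
  δ n i := (rg G (pt ⟨n⟩ i)).comp (inclD.app (op ⟨0⟩)).hom
  δ_nat a i := by
    rw [← RingHom.comp_assoc, ← rg_comp]
    rfl
  po n i := by
    rw [halg]
    exact IsPO.paste h0 (hj' (pt ⟨n⟩ i))

end Sq

section Trans

variable {R : Type u} [CommRing R] {E : NFᵒᵖ ⥤ CommRingCat.{u}} {X : Vx R E} {D D' : Type u} [CommRing D] [Algebra R D]
  [CommRing D'] [Algebra R D']

/-- transport of a level algebra along an isomorphism -/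
def AlgLev.ofEquiv (Y : AlgLev X D) (e : D' ≃ₐ[R] D) : AlgLev X D' where
  G := Y.G
  j := Y.j
  cart := Y.cart
  δ n i := (Y.δ n i).comp (e : D' →+* D)
  δ_nat a i := by rw [← RingHom.comp_assoc, Y.δ_nat]
  po n i := by
    have h1 : IsPO (RingHom.id R) (algebraMap R D') (algebraMap R D) (e : D' →+* D) := by
      haveI : IsIso (CommRingCat.ofHom (e : D' →+* D)) := (RingEquiv.toCommRingCatIso e.toRingEquiv).isIso_hom
      haveI : IsIso (CommRingCat.ofHom (RingHom.id R)) := inferInstanceAs (IsIso (𝟙 (CommRingCat.of R)))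
      refine IsPushout.of_horiz_isIso ⟨?_⟩
      refine congrArg CommRingCat.ofHom ?_
      ext r
      exact (e.commutes r).symm
    exact IsPO.paste h1 (Y.po n i)

end Trans

section Tn

variable {k : Type u} [CommRing k] (B : Type u) [CommRing B] [Algebra k B]

theorem TO.map_comp {R R' R'' : Type u} [CommRing R] [CommRing R'] [CommRing R''] (κ : k →+* R) (κ' : k →+* R')
    (κ'' : k →+* R'') (f : R →+* R') (g : R' →+* R'') (hf : f.comp κ = κ') (hg : g.comp κ' = κ'')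
    (hgf : (g.comp f).comp κ = κ'') :
    (TO.map B κ' κ'' g hg).comp (TO.map B κ κ' f hf) = TO.map B κ κ'' (g.comp f) hgf := by
  refine TO.hom_ext B κ ?_ ?_
  · rw [RingHom.comp_assoc, TO.map_inr, ← RingHom.comp_assoc, TO.map_inr, TO.map_inr, RingHom.comp_assoc]
  · rw [RingHom.comp_assoc, TO.map_inl, TO.map_inl, TO.map_inl]

/-- the square of a base change `B ⊗ -` is a pushout -/
theorem TO.map_po {R R' : Type u} [CommRing R] [CommRing R'] (κ : k →+* R) (κ' : k →+* R') (f : R →+* R')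
    (h : f.comp κ = κ') : IsPO f (TO.inr B κ) (TO.inr B κ') (TO.map B κ κ' f h) := by
  subst h
  refine IsPO.cancel (TO.po B κ) ?_ (TO.map_inr B κ (f.comp κ) f rfl).symm
  rw [TO.map_inl]
  exact TO.po B (f.comp κ)

variable {A D : NFᵒᵖ ⥤ CommRingCat.{u}} (kA : ∀ a : NF, k →+* A.obj (op a)) (kD : ∀ a : NF, k →+* D.obj (op a))
  (hkA : ∀ {a c : NF} (φ : a ⟶ c), (rg A φ).comp (kA c) = kA a)
  (hkD : ∀ {a c : NF} (φ : a ⟶ c), (rg D φ).comp (kD c) = kD a) (j : A ⟶ D)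
  (hj : ∀ a : NF, (j.app (op a)).hom.comp (kA a) = kD a)

/-- functoriality of `B ⊗ -` -/
noncomputable def tnMap : tn B A kA hkA ⟶ tn B D kD hkD where
  app a := CommRingCat.ofHom (TO.map B (kA a.unop) (kD a.unop) (j.app a).hom (hj a.unop))
  naturality {a c} φ := by
    refine congrArg CommRingCat.ofHom ?_
    change (TO.map B (kA c.unop) (kD c.unop) (j.app c).hom (hj c.unop)).comp
      (TO.map B (kA a.unop) (kA c.unop) (rg A φ.unop) (hkA φ.unop)) =
      (TO.map B (kD a.unop) (kD c.unop) (rg D φ.unop) (hkD φ.unop)).comp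
        (TO.map B (kA a.unop) (kD a.unop) (j.app a).hom (hj a.unop))
    have e : (j.app c).hom.comp (rg A φ.unop) = (rg D φ.unop).comp (j.app a).hom :=
      congrArg CommRingCat.Hom.hom (j.naturality φ)
    have e1 : ((j.app c).hom.comp (rg A φ.unop)).comp (kA a.unop) = kD c.unop := by
      rw [RingHom.comp_assoc, hkA]
      exact hj c.unop
    have e2 : ((rg D φ.unop).comp (j.app a).hom).comp (kA a.unop) = kD c.unop := by
      rw [RingHom.comp_assoc]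
      exact (congrArg _ (hj a.unop)).trans (hkD φ.unop)
    rw [TO.map_comp B _ _ _ _ _ _ _ e1, TO.map_comp B _ _ _ _ _ _ _ e2]
    congr 1

theorem tnMap_app (a : NF) : ((tnMap B kA kD hkA hkD j hj).app (op a)).hom =
    TO.map B (kA a) (kD a) (j.app (op a)).hom (hj a) := rfl

theorem tnMap_cart (hc : CartHom j) : CartHom (tnMap B kA kD hkA hkD j hj) := fun {a b} φ =>
  IsPO.cube (hc φ) (TO.map_po B (kA b) (kD b) (j.app (op b)).hom (hj b))
    (TO.map_po B (kA a) (kD a) (j.app (op a)).hom (hj a)) (TO.map_inr B (kA b) (kA a) (rg A φ) (hkA φ))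
    (TO.map_inr B (kD b) (kD a) (rg D φ) (hkD φ))
    (congrArg CommRingCat.Hom.hom ((tnMap B kA kD hkA hkD j hj).naturality φ.op)).symm

theorem tn_gal {C : Type u} [CommRing C] (hD : GR D) (G : Gal D C) (kC : k →+* C) (hk : G.φ.comp kC = kD ⟨0⟩) :
    ∃ c : TO B kC →+* (tn B D kD hkD).obj (op ⟨0⟩), IsGal (tn B D kD hkD) c :=
  ⟨_, (isTens_tn B D kD hkD).gr hD, ((isTens_tn B D kD hkD).gal G kC hk (TO.inr B kC) (TO.inl B kC) (TO.po B kC)).ff,
    ((isTens_tn B D kD hkD).gal G kC hk (TO.inr B kC) (TO.inl B kC) (TO.po B kC)).po⟩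

end Tn

section Arch

variable {k : Type u} [CommRing k] {A : NFᵒᵖ ⥤ CommRingCat.{u}} [Arch.GRF k A] (B : Type u) [CommRing B] [Algebra k B]

/-- the structure maps `k → A⟨a⟩` -/
def kkA (k : Type u) [CommRing k] (A : NFᵒᵖ ⥤ CommRingCat.{u}) [Arch.GRF k A] (a : NF) : k →+* A.obj (op a) :=
  algebraMap k (A.obj (op a))

theorem kkA_nat {a c : NF} (φ : a ⟶ c) : (rg A φ).comp (kkA k A c) = kkA k A a :=
  RingHom.ext fun r => Arch.GRF.map_k φ r

/-- the structure maps `k → D⟨a⟩` -/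
def kkD (k : Type u) [CommRing k] {A : NFᵒᵖ ⥤ CommRingCat.{u}} [Arch.GRF k A] (Y : Arch.AffOver A) (a : NF) :
    k →+* Y.D.obj (op a) := algebraMap k (Y.D.obj (op a))

theorem kkD_nat (Y : Arch.AffOver A) {a c : NF} (φ : a ⟶ c) : (rg Y.D φ).comp (kkD k Y c) = kkD k Y a :=
  RingHom.ext fun r => (Y.rk (k := k) φ).commutes r

theorem kkAD (Y : Arch.AffOver A) (a : NF) : (Y.j.app (op a)).hom.comp (kkA k A a) = kkD k Y a := rfl

/-- `B ⊗ A` -/
noncomputable abbrev EB (k : Type u) [CommRing k] (A : NFᵒᵖ ⥤ CommRingCat.{u}) [Arch.GRF k A] (B : Type u) [CommRing B]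
    [Algebra k B] : NFᵒᵖ ⥤ CommRingCat.{u} := tn B A (kkA k A) (fun φ => kkA_nat φ)

/-- `A ⟶ B ⊗ A` -/
noncomputable abbrev inclB (k : Type u) [CommRing k] (A : NFᵒᵖ ⥤ CommRingCat.{u}) [Arch.GRF k A] (B : Type u) [CommRing B]
    [Algebra k B] : A ⟶ EB k A B := tnIncl B A (kkA k A) (fun φ => kkA_nat φ)

/-- `B ⊗ Y.D` -/
noncomputable abbrev GB (k : Type u) [CommRing k] {A : NFᵒᵖ ⥤ CommRingCat.{u}} [Arch.GRF k A] (Y : Arch.AffOver A)
    (B : Type u) [CommRing B] [Algebra k B] : NFᵒᵖ ⥤ CommRingCat.{u} := tn B Y.D (kkD k Y) (fun φ => kkD_nat Y φ)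

/-- `Y.D ⟶ B ⊗ Y.D` -/
noncomputable abbrev inclDB (k : Type u) [CommRing k] {A : NFᵒᵖ ⥤ CommRingCat.{u}} [Arch.GRF k A] (Y : Arch.AffOver A)
    (B : Type u) [CommRing B] [Algebra k B] : Y.D ⟶ GB k Y B := tnIncl B Y.D (kkD k Y) (fun φ => kkD_nat Y φ)

/-- `B ⊗ A ⟶ B ⊗ Y.D` -/
noncomputable abbrev jB (k : Type u) [CommRing k] {A : NFᵒᵖ ⥤ CommRingCat.{u}} [Arch.GRF k A] (Y : Arch.AffOver A)
    (B : Type u) [CommRing B] [Algebra k B] : EB k A B ⟶ GB k Y B :=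
  tnMap B (kkA k A) (kkD k Y) (fun φ => kkA_nat φ) (fun φ => kkD_nat Y φ) Y.j (kkAD Y)

theorem gr_EB : GR (EB k A B) := (isTens_tn B A (kkA k A) (fun φ => kkA_nat φ)).gr (Arch.GRF.gr k)

theorem gr_GB (Y : Arch.AffOver A) : GR (GB k Y B) :=
  (isTens_tn B Y.D (kkD k Y) (fun φ => kkD_nat Y φ)).gr (CartHom.gr Y.cart (Arch.GRF.gr k))

theorem flat_inclB [Module.Flat k B] : ((inclB k A B).app (op ⟨0⟩)).hom.Flat :=
  IsPO.flat (TO.po B (kkA k A ⟨0⟩)).flip ((RingHom.flat_algebraMap_iff).2 inferInstance)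

/-- **the level algebra of `D⟨0⟩` over the levels `B ⊗ A⟨n⟩`** -/
noncomputable def algLevTn (Y : Arch.AffOver A) : AlgLev (vxE (inclB k A B)) (Y.D.obj (op ⟨0⟩)) :=
  algLevOf (D := Y.D) (G := GB k Y B) (jD := Y.j) (j' := jB k Y B) (inclD := inclDB k Y B) rfl
    (tnMap_cart B (kkA k A) (kkD k Y) (fun φ => kkA_nat φ) (fun φ => kkD_nat Y φ) Y.j (kkAD Y) Y.cart)
    (TO.map_po B (kkA k A ⟨0⟩) (kkD k Y ⟨0⟩) (Y.j.app (op ⟨0⟩)).hom (kkAD Y ⟨0⟩)).flip

/-- **it is Galois** -/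
theorem algLevTn_gal (Y : Arch.AffOver A) {C : Type u} [CommRing C] (G : Gal Y.D C) (kC : k →+* C)
    (hk : G.φ.comp kC = kkD k Y ⟨0⟩) : ∃ c : TO B kC →+* (GB k Y B).obj (op ⟨0⟩), IsGal (GB k Y B) c :=
  tn_gal B (kkD k Y) (fun φ => kkD_nat Y φ) (CartHom.gr Y.cart (Arch.GRF.gr k)) G kC hk

end Arch

end Groth.Agent.ResProp.EF.K431
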