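import Groth.Agent.ResProp.EF.K431.LevInst
import Groth.Agent.ResProp.EF.K363.Glued

/-!
# The glued descent datum of the output of the producer, with no hypothesis left

`exists_glued_algOut` : 363's `exists_glued` with (AD2) (`H1_H2_of_algOut`) plugged in.
-/

set_option autoImplicit false
set_option linter.dupNamespace false

open CategoryTheory Opposite TensorProduct

namespace Groth.Agent.ResProp.EF.K431

open K784.BC K784.PM EF56 K980 K363 K477 Arch

universe u

variable {k : Type u} [CommRing k] {A : NFᵒᵖ ⥤ CommRingCat.{u}} [GRF k A] {x : PrimeSpectrum (A.obj (op ⟨0⟩))}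
  {c : CoverDatum k A x} (o : ALGOut c) (hA : GR A)

/-- **the glued descent datum and the lifts of all points of `H` which commute with it** -/
theorem exists_glued_algOut :
    ∃ (ψ : BC ((lvB k hA k).x 1 0) o.X.K ≃ₗ[(lvB k hA k).Rn 1] BC ((lvB k hA k).x 1 1) o.X.K)
      (hc : IsCocy (lvB k hA k) ψ), ψ ∈ o.X.L (o.lev.ar k 1 0 1 1) ∧ K303.Glued o (descA hA ψ hc) ∧
      ∀ (B : Type u) [CommRing B] [Algebra k B] [Module.Flat k B] (h : (K208.pts c.H).pt B),
        ∃ g ∈ o.X.L (o.lev.ar B 0 0 0 h), Commutes (lvB k hA B) (psiB hA o.X.K ψ B) g :=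
  exists_glued o hA (fun B _ _ _ _ hq _ => (H1_H2_of_algOut c B hA o hq).1)
    (fun _ hq _ => (H1_H2_of_algOut c k hA o hq).2)

end Groth.Agent.ResProp.EF.K431
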