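import Groth.Agent.ResProp.EF.K431.AD2Lv
import Groth.Agent.ResProp.EF.K431.AlgLevInst

/-!
# (AD2) for the output of the producer

For `c : CoverDatum k A x`, `o : ALGOut c` and every flat `k`-algebra `B`: `(ts o.X (arrB o.lev hA B)).H1 q` and `.H2 q` for all
`q ≥ 1` (`H1_of_algOut`, `H2_of_algOut`).
-/

set_option autoImplicit false
set_option linter.dupNamespace false
set_option linter.style.haveILetI false

open CategoryTheory Opposite TensorProduct

namespace Groth.Agent.ResProp.EF.K431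

open K784.BC K784.PM EF56 K980 K363 K477 Arch

universe v u

/-! ### rings -/

section Rings

theorem isBC_self {A B : Type u} [CommRing A] [CommRing B] (φ : A →+* B) : IsBC φ (φ : A →+ B) := by
  refine IsBC.of_lift (fun a m => φ.map_mul a m) (fun Q _ _ g hg => ?_)
  refine ⟨(LinearMap.toSpanSingleton _ Q (g 1)), fun m => ?_, fun g' hg' => ?_⟩
  · change φ m • g 1 = g m
    rw [← hg, smul_eq_mul, mul_one]
  · ext
    rw [LinearMap.toSpanSingleton_apply, one_smul, ← hg']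
    exact congrArg g' (map_one φ).symm

/-- a map to `D⟨0⟩` equalized by the two projections factors through `C` -/
theorem exists_kC {D : NFᵒᵖ ⥤ CommRingCat.{u}} {C : Type u} [CommRing C] (G : Gal D C) {k : Type u} [CommRing k]
    (κ : k →+* D.obj (op ⟨0⟩)) (h : (rg D (pr ⟨0⟩)).comp κ = (rg D (lst ⟨0⟩)).comp κ) :
    ∃ kC : k →+* C, G.φ.comp kC = κ := by
  have hinj : Function.Injective G.φ := IsBC.injective G.ff (isBC_self G.φ)
  have h1 : ∀ r : k, ∃ z : C, G.φ z = κ r := fun r =>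
    IsBC.mem_range G.ff G.po (M := C) (M' := D.obj (op ⟨0⟩)) (M'' := D.obj (op ⟨1⟩)) (f := (G.φ : C →+ D.obj (op ⟨0⟩)))
      (isBC_self G.φ) (r₁ := (rg D (pr ⟨0⟩) : _ →+ _)) (r₂ := (rg D (lst ⟨0⟩) : _ →+ _))
      (fun b m => (rg D (pr ⟨0⟩)).map_mul b m) (isBC_self _) (fun m => congr($(G.po.comm) m)) (x := κ r)
      (congr($h r))
  choose f hf using h1
  exact ⟨{ toFun := f
           map_one' := hinj (by rw [hf, map_one, map_one])
           map_mul' := fun a b => hinj (by rw [hf, map_mul, map_mul, hf, hf])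
           map_zero' := hinj (by rw [hf, map_zero, map_zero])
           map_add' := fun a b => hinj (by rw [hf, map_add, map_add, hf, hf]) }, RingHom.ext hf⟩

variable {k : Type u} [CommRing k] (B : Type u) [CommRing B] [Algebra k B]

/-- `r ↦ 1 ⊗ r` -/
abbrev inR (R : Type u) [CommRing R] [Algebra k R] : R →+* B ⊗[k] R :=
  (Algebra.TensorProduct.includeRight (R := k) (A := B) (B := R)).toRingHom

theorem inR_po (R : Type u) [CommRing R] [Algebra k R] :
    IsPO (algebraMap k R) (algebraMap k B) (inR B R) (Algebra.TensorProduct.includeLeftRingHom : B →+* B ⊗[k] R) :=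
  (CommRingCat.isPushout_tensorProduct k B R).flip

theorem map_po {R R' : Type u} [CommRing R] [Algebra k R] [CommRing R'] [Algebra k R'] (f : R →ₐ[k] R') :
    IsPO (f : R →+* R') (inR B R) (inR B R') (Algebra.TensorProduct.map (AlgHom.id k B) f).toRingHom := by
  have h1 : (f : R →+* R').comp (algebraMap k R) = algebraMap k R' := by
    ext r
    exact f.commutes r
  have h2 : (Algebra.TensorProduct.map (AlgHom.id k B) f).toRingHom.comp
      (Algebra.TensorProduct.includeLeftRingHom : B →+* B ⊗[k] R) = Algebra.TensorProduct.includeLeftRingHom := by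
    ext b
    change Algebra.TensorProduct.map (AlgHom.id k B) f (b ⊗ₜ 1) = b ⊗ₜ 1
    rw [Algebra.TensorProduct.map_tmul, map_one]
    rfl
  refine IsPO.cancel (inR_po B R) ?_ ?_
  · rw [h1, h2]
    exact inR_po B R'
  · ext r
    change (1 : B) ⊗ₜ[k] f r = Algebra.TensorProduct.map (AlgHom.id k B) f (1 ⊗ₜ r)
    rw [Algebra.TensorProduct.map_tmul]
    rfl

end Rings

/-! ### the level algebra -/

section Lev

variable {k : Type u} [CommRing k] {A : NFᵒᵖ ⥤ CommRingCat.{u}} [GRF k A] {x : PrimeSpectrum (A.obj (op ⟨0⟩))}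
  (c : CoverDatum k A x) (B : Type u) [CommRing B] [Algebra k B]

/-- `B ⊗ D⟨n⟩` -/
noncomputable def GDf : NFᵒᵖ ⥤ CommRingCat.{u} where
  obj a := CommRingCat.of (B ⊗[k] c.Y.D.obj (op a.unop))
  map {a b} φ := CommRingCat.ofHom
    (Algebra.TensorProduct.map (AlgHom.id k B) (c.Y.rk (k := k) (a := b.unop) (b := a.unop) φ.unop)).toRingHom
  map_id a := by
    have h : c.Y.rk (k := k) (𝟙 a.unop) = AlgHom.id k (c.Y.D.obj (op a.unop)) := by
      ext r
      change rg c.Y.D (𝟙 a.unop) r = r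
      rw [rg_id]
      rfl
    refine congrArg CommRingCat.ofHom ?_
    change (Algebra.TensorProduct.map (AlgHom.id k B) (c.Y.rk (k := k) (𝟙 a.unop))).toRingHom = _
    rw [h, Algebra.TensorProduct.map_id]
    rfl
  map_comp {a b d} φ ψ := by
    have h : c.Y.rk (k := k) (ψ.unop ≫ φ.unop) = (c.Y.rk (k := k) ψ.unop).comp (c.Y.rk (k := k) φ.unop) := by
      ext r
      change rg c.Y.D (ψ.unop ≫ φ.unop) r = rg c.Y.D ψ.unop (rg c.Y.D φ.unop r)
      rw [rg_comp]
      rfl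
    rw [← CommRingCat.ofHom_comp]
    refine congrArg CommRingCat.ofHom ?_
    change (Algebra.TensorProduct.map (AlgHom.id k B) (c.Y.rk (k := k) (ψ.unop ≫ φ.unop))).toRingHom = _
    rw [h]
    have h2 := Algebra.TensorProduct.map_comp (AlgHom.id k B) (AlgHom.id k B) (c.Y.rk (k := k) ψ.unop)
      (c.Y.rk (k := k) φ.unop)
    rw [AlgHom.id_comp] at h2
    rw [h2]
    rfl

/-- `D⟨n⟩ → B ⊗ D⟨n⟩` -/
noncomputable def inclG : c.Y.D ⟶ GDf c B where
  app a := CommRingCat.ofHom (inR (k := k) B (c.Y.D.obj (op a.unop)))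
  naturality {a b} φ := by
    refine congrArg CommRingCat.ofHom ?_
    ext r
    change (1 : B) ⊗ₜ[k] rg c.Y.D φ.unop r =
      Algebra.TensorProduct.map (AlgHom.id k B) (c.Y.rk (k := k) φ.unop) (1 ⊗ₜ r)
    rw [Algebra.TensorProduct.map_tmul]
    rfl

/-- `B ⊗ D` as a base change of `D` -/
theorem isTens_G : IsTens (fun a : NF => algebraMap k (c.Y.D.obj (op a))) (algebraMap k B) (inclG c B)
    (fun a => (Algebra.TensorProduct.includeLeftRingHom : B →+* B ⊗[k] c.Y.D.obj (op a))) where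
  kk_nat φ := RingHom.ext fun r => (c.Y.rk (k := k) φ).commutes r
  b_nat {a d} φ := by
    ext b
    change Algebra.TensorProduct.map (AlgHom.id k B) (c.Y.rk (k := k) φ) (b ⊗ₜ 1) = b ⊗ₜ 1
    rw [Algebra.TensorProduct.map_tmul, map_one]
    rfl
  po a := inR_po B (c.Y.D.obj (op a))

theorem exists_gal : ∃ (C' : Type u) (_ : CommRing C') (φ : C' →+* (GDf c B).obj (op ⟨0⟩)), IsGal (GDf c B) φ := by
  obtain ⟨kC, hk⟩ := exists_kC c.gal (algebraMap k (c.Y.D.obj (op ⟨0⟩)))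
    (by rw [(isTens_G c B).kk_nat, (isTens_G c B).kk_nat])
  letI := kC.toAlgebra
  let g := (isTens_G c B).gal c.gal kC hk (inR B c.C)
    (Algebra.TensorProduct.includeLeftRingHom : B →+* B ⊗[k] c.C) (inR_po B c.C)
  exact ⟨_, inferInstance, g.φ, (isTens_G c B).gr (CartHom.gr c.Y.cart (GRF.gr k)), g.ff, g.po⟩

theorem lvD_po (n : ℕ) : IsPO (c.Y.j.app (op ⟨n⟩)).hom (inR B (A.obj (op ⟨n⟩))) (inR B (c.Y.D.obj (op ⟨n⟩)))
    (lvD c B n) :=
  map_po B (IsScalarTower.toAlgHom k (A.obj (op ⟨n⟩)) (c.Y.D.obj (op ⟨n⟩)))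

theorem lvD_nat {m n : ℕ} (φ : (⟨n⟩ : NF) ⟶ ⟨m⟩) :
    (lvD c B n).comp (Algebra.TensorProduct.map (AlgHom.id k B) (rgk k A φ)).toRingHom =
      (Algebra.TensorProduct.map (AlgHom.id k B) (c.Y.rk (k := k) (a := ⟨n⟩) (b := ⟨m⟩) φ)).toRingHom.comp
        (lvD c B m) := by
  have h1 := Algebra.TensorProduct.map_comp (AlgHom.id k B) (AlgHom.id k B)
    (IsScalarTower.toAlgHom k (A.obj (op ⟨n⟩)) (c.Y.D.obj (op ⟨n⟩))) (rgk k A φ)
  have h2 := Algebra.TensorProduct.map_comp (AlgHom.id k B) (AlgHom.id k B) (c.Y.rk (k := k) (a := ⟨n⟩) (b := ⟨m⟩) φ)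
    (IsScalarTower.toAlgHom k (A.obj (op ⟨m⟩)) (c.Y.D.obj (op ⟨m⟩)))
  have h3 : (IsScalarTower.toAlgHom k (A.obj (op ⟨n⟩)) (c.Y.D.obj (op ⟨n⟩))).comp (rgk k A φ) =
      (c.Y.rk (k := k) (a := ⟨n⟩) (b := ⟨m⟩) φ).comp
        (IsScalarTower.toAlgHom k (A.obj (op ⟨m⟩)) (c.Y.D.obj (op ⟨m⟩))) := by
    ext r
    exact congr($(c.Y.j.naturality φ.op).hom r)
  rw [h3] at h1
  exact congrArg AlgHom.toRingHom (h1.symm.trans h2)

theorem vtxD_bc (n : ℕ) (i : Fin (n + 1)) (m : c.Y.D.obj (op ⟨0⟩)) :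
    vtxD c B n i (bc (xp k A B n i) m) = (1 : B) ⊗ₜ[k] rg c.Y.D (pt ⟨n⟩ i) m :=
  BC.lift_bc _ _ m

variable [Module.Flat k B] (hA : GR A)

/-- `B ⊗ A⟨n⟩ → B ⊗ D⟨n⟩` -/
noncomputable def jG : lvFun (lvB k hA B) (lvB_id hA B) ⟶ GDf c B where
  app a := CommRingCat.ofHom (lvD c B a.unop.n)
  naturality {a b} φ := congrArg CommRingCat.ofHom (lvD_nat c B (m := a.unop.n) (n := b.unop.n) φ.unop)

theorem jG_cart : CartHom (jG c B hA) := fun {a b} φ =>
  IsPO.cube (c.Y.cart φ) (lvD_po c B b.n) (lvD_po c B a.n)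
    (map_po B (rgk k A φ)).comm.symm
    (map_po B (c.Y.rk (k := k) φ)).comm.symm
    (congrArg CommRingCat.Hom.hom ((jG c B hA).naturality φ.op)).symm

/-- the level algebra of `D⟨0⟩` -/
noncomputable def algLevG : AlgLev (vxLv (lvB k hA B) (lvB_id hA B)) (c.Y.D.obj (op ⟨0⟩)) where
  G := GDf c B
  j := jG c B hA
  cart := jG_cart c B hA
  δ n i := (inR (k := k) B (c.Y.D.obj (op ⟨n⟩))).comp (rg c.Y.D (pt ⟨n⟩ i))
  δ_nat {m n} a i := by
    ext r
    change Algebra.TensorProduct.map (AlgHom.id k B) (c.Y.rk (k := k) (ar a)) (1 ⊗ₜ rg c.Y.D (pt ⟨m⟩ i) r) =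
      (1 : B) ⊗ₜ[k] rg c.Y.D (pt ⟨n⟩ (a i)) r
    rw [Algebra.TensorProduct.map_tmul, map_one]
    congr 1
    change rg c.Y.D (ar a) (rg c.Y.D (pt ⟨m⟩ i) r) = _
    rw [← RingHom.comp_apply, ← rg_comp]
    rfl
  po n i := IsPO.paste (c.Y.cart (pt ⟨n⟩ i)) (lvD_po c B n).flip

/-- it is 980's `vtxD` -/
theorem algLevG_bD (n : ℕ) (i : Fin (n + 1)) (d : BC (xp k A B n i) (c.Y.D.obj (op ⟨0⟩))) :
    (algLevG c B hA).bD n i d = vtxD c B n i d := by
  induction d using BC.ind with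
  | h0 => exact ((algLevG c B hA).bD n i).map_zero.trans (vtxD c B n i).map_zero.symm
  | h1 r m =>
    refine (((algLevG c B hA).bD n i).map_smulₛₗ r (bc (xp k A B n i) m)).trans ?_
    refine Eq.trans ?_ ((vtxD c B n i).map_smulₛₗ r (bc (xp k A B n i) m)).symm
    have h1 : (algLevG c B hA).bD n i (bc (xp k A B n i) m) = vtxD c B n i (bc (xp k A B n i) m) :=
      ((algLevG c B hA).bD_bc n i m).trans (vtxD_bc c B n i m).symm
    exact congrArg (fun z : B ⊗[k] c.Y.D.obj (op ⟨n⟩) => lvD c B n r * z) h1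
  | h2 a b ha hb =>
    exact (((algLevG c B hA).bD n i).map_add a b).trans
      ((congrArg₂ (fun s t : B ⊗[k] c.Y.D.obj (op ⟨n⟩) => s + t) ha hb).trans ((vtxD c B n i).map_add a b).symm)

end Lev

/-! ### the matching of the actions -/

section Eta

variable {k : Type u} [CommRing k] {A : NFᵒᵖ ⥤ CommRingCat.{u}} [GRF k A] {x : PrimeSpectrum (A.obj (op ⟨0⟩))}
  (c : CoverDatum k A x) (B : Type u) [CommRing B] [Algebra k B]

theorem hAct_one (n : ℕ) (z : c.Y.D.obj (op ⟨n⟩)) :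
    hAct c B n (1 : (K208.pts c.H).pt B).ofConv z = (1 : B) ⊗ₜ[k] z := by
  have h1 : ((1 : (K208.pts c.H).pt B).ofConv : c.H.O →ₐ[k] B).toLinearMap =
      (Algebra.linearMap k B) ∘ₗ (Coalgebra.counit (R := k) (A := c.H.O)) := rfl
  unfold hAct
  simp only [LinearMap.comp_apply]
  rw [h1, LinearMap.lTensor_comp, LinearMap.comp_apply]
  have h2 := (c.ρ ⟨n⟩).counit z
  rw [show (Coalgebra.counit (R := k) (A := c.H.O)).lTensor (c.Y.D.obj (op ⟨n⟩)) ((c.ρ ⟨n⟩).ρ.toLinearMap z) =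
    z ⊗ₜ[k] (1 : k) from h2]
  simp

variable [Module.Flat k B] (hA : GR A) (o : ALGOut c)

theorem ofEquiv_bD (n : ℕ) (i : Fin (n + 1)) (d : BC (xp k A B n i) o.X.D) :
    ((algLevG c B hA).ofEquiv o.iD).bD n i d = vtxD c B n i (BC.map (xp k A B n i) o.iD.toLinearMap d) := by
  induction d using BC.ind with
  | h0 =>
    refine (((algLevG c B hA).ofEquiv o.iD).bD n i).map_zero.trans ?_
    rw [map_zero]
    exact (vtxD c B n i).map_zero.symm
  | h1 r m =>
    refine ((((algLevG c B hA).ofEquiv o.iD).bD n i).map_smulₛₗ r (bc (xp k A B n i) m)).trans ?_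
    rw [LinearMap.map_smul]
    refine Eq.trans ?_ ((vtxD c B n i).map_smulₛₗ r _).symm
    have h1 : ((algLevG c B hA).ofEquiv o.iD).bD n i (bc (xp k A B n i) m) =
        vtxD c B n i (BC.map (xp k A B n i) o.iD.toLinearMap (bc (xp k A B n i) m)) := by
      rw [BC.map_bc]
      exact (((algLevG c B hA).ofEquiv o.iD).bD_bc n i m).trans (vtxD_bc c B n i (o.iD m)).symm
    exact congrArg (fun z : B ⊗[k] c.Y.D.obj (op ⟨n⟩) => lvD c B n r * z) h1
  | h2 a b ha hb =>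
    refine ((((algLevG c B hA).ofEquiv o.iD).bD n i).map_add a b).trans ?_
    rw [(BC.map (xp k A B n i) o.iD.toLinearMap).map_add]
    exact (congrArg₂ (fun s t : B ⊗[k] c.Y.D.obj (op ⟨n⟩) => s + t) ha hb).trans ((vtxD c B n i).map_add _ _).symm

theorem eta_bc (n : ℕ) (i j : Fin (n + 1)) (m : o.X.D) :
    vtxD c B n j (BC.map (xp k A B n j) o.iD.toLinearMap (o.X.eta.act (o.lev.ar B n i j 1) (bc (xp k A B n i) m))) =
      (1 : B) ⊗ₜ[k] rg c.Y.D (pt ⟨n⟩ i) (o.iD m) := by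
  have h1 : vtxD c B n j (BC.map (xp k A B n j) o.iD.toLinearMap (o.X.eta.act (o.lev.ar B n i j 1)
      (BC.map (xp k A B n i) o.iD.symm.toLinearMap (bc (xp k A B n i) (o.iD m))))) = _ :=
    o.eta_match B n i j 1 (o.iD m)
  rw [hAct_one, BC.map_bc] at h1
  have h2 : o.iD.symm.toLinearMap (o.iD m) = m := o.iD.symm_apply_apply m
  rw [h2] at h1
  exact h1

theorem etaComp : EtaCompLv (lvB_id hA B) o.X (arrB o.lev hA B) ((algLevG c B hA).ofEquiv o.iD) := by
  intro n i j d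
  induction d using BC.ind with
  | h0 =>
    refine (congrArg _ (o.X.eta.act _).map_zero).trans ?_
    exact (((algLevG c B hA).ofEquiv o.iD).bD n j).map_zero.trans
      (((algLevG c B hA).ofEquiv o.iD).bD n i).map_zero.symm
  | h1 r m =>
    refine (congrArg _ (LinearMap.map_smul (o.X.eta.act ((arrB o.lev hA B).arr n i j 1)).toLinearMap r _)).trans ?_
    refine ((((algLevG c B hA).ofEquiv o.iD).bD n j).map_smulₛₗ r _).trans ?_
    refine Eq.trans ?_ ((((algLevG c B hA).ofEquiv o.iD).bD n i).map_smulₛₗ r _).symm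
    have h1 : ((algLevG c B hA).ofEquiv o.iD).bD n j (o.X.eta.act (o.lev.ar B n i j 1) (bc (xp k A B n i) m)) =
        ((algLevG c B hA).ofEquiv o.iD).bD n i (bc (xp k A B n i) m) := by
      refine (ofEquiv_bD c B hA o n j _).trans ?_
      exact (eta_bc c B o n i j m).trans (((algLevG c B hA).ofEquiv o.iD).bD_bc n i m).symm
    exact congrArg (fun z : B ⊗[k] c.Y.D.obj (op ⟨n⟩) => lvD c B n r * z) h1
  | h2 a b ha hb =>
    refine (congrArg _ ((o.X.eta.act _).map_add a b)).trans ?_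
    refine ((((algLevG c B hA).ofEquiv o.iD).bD n j).map_add _ _).trans ?_
    exact (congrArg₂ (fun s t : B ⊗[k] c.Y.D.obj (op ⟨n⟩) => s + t) ha hb).trans
      ((((algLevG c B hA).ofEquiv o.iD).bD n i).map_add _ _).symm

/-- **(AD2) for the output of the producer** -/
theorem H1_H2_of_algOut {q : ℕ} (hq : 1 ≤ q) :
    (ts o.X (arrB o.lev hA B)).H1 q ∧ (ts o.X (arrB o.lev hA B)).H2 q := by
  obtain ⟨C', _, φ, hφ⟩ := exists_gal c B
  exact H1_H2_of_lv (lvB_id hA B) o.X (arrB o.lev hA B) (Y := (algLevG c B hA).ofEquiv o.iD) (etaComp c B hA o) hφ hq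

/-- **the cocycle and the equivariant lifts over all flat algebras, for the output of the producer** -/
theorem glue_algOut :
    ∃ ψ : BC ((lvB k hA k).x 1 0) o.X.K ≃ₗ[(lvB k hA k).Rn 1] BC ((lvB k hA k).x 1 1) o.X.K,
      IsCocy (lvB k hA k) ψ ∧
      ∀ (B : Type u) [CommRing B] [Algebra k B] [Module.Flat k B],
        psiB hA o.X.K ψ B ∈ o.X.L (o.lev.ar B 1 0 1 1) ∧ IsCocy (lvB k hA B) (psiB hA o.X.K ψ B) ∧
        ∀ h : (K208.pts c.H).pt B, ∃ g ∈ o.X.L (o.lev.ar B 0 0 0 h), Commutes (lvB k hA B) (psiB hA o.X.K ψ B) g :=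
  glue_all o.X o.lev hA (fun B _ _ _ _ hq _ => (H1_H2_of_algOut c B hA o hq).1)
    (fun _ hq _ => (H1_H2_of_algOut c k hA o hq).2)

end Eta

end Groth.Agent.ResProp.EF.K431
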